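import Cfsg.Agent.Sol.Loc
import Cfsg.Agent.Comp.BitMore

/-!
# Intrinsic 2-components `2.A_n`: the structure map of `N(K) ∩ C(t)` modulo `O(C(t))`
-/

set_option autoImplicit false
set_option linter.unusedSectionVars false

namespace Cfsg.Agent.Sol

open Subgroup Cfsg Cfsg.Agent.PLocal Cfsg.Agent.PLocal.Amb Cfsg.Agent.Suz Cfsg.Agent.Bender
open Equiv Equiv.Perm Cfsg.Agent.LyMc Cfsg.Agent.KSG
open scoped commutatorElement

/-- `K / O(K)` is a double cover of the alternating group -/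
def DC (Ω K : Type*) [Group K] [Fintype Ω] [DecidableEq Ω] : Prop :=
  IsNonsplitDoubleCover (K ⧸ pPrimeCore 2 K) (alternatingGroup Ω)

theorem dc_iff {Ω A A' : Type*} [Group A] [Group A'] [Finite A] [Fintype Ω] [DecidableEq Ω]
    (f : A →* A') (hf : Function.Surjective f) (hk : ∀ a, f a = 1 → Odd (orderOf a)) :
    DC Ω A ↔ DC Ω A' := by
  have e : A ⧸ pPrimeCore 2 A ≃* A' ⧸ pPrimeCore 2 A' :=
    (QuotientGroup.quotientMulEquivOfEq (by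
      rw [← MonoidHom.comap_ker, QuotientGroup.ker_mk', Grp.comap_pPrimeCore_eq_of_surjective f hf
        (Nat.coprime_two_right.2 (odd_card_of hk))])).trans
      (QuotientGroup.quotientKerEquivOfSurjective ((QuotientGroup.mk' (pPrimeCore 2 A')).comp f)
        ((QuotientGroup.mk'_surjective _).comp hf))
  exact ⟨Comp.BN.nonsplit_congr e (MulEquiv.refl _), Comp.BN.nonsplit_congr e.symm (MulEquiv.refl _)⟩

universe u

variable {G : Type*} [Group G]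

/-- an intrinsic 2-component -/
structure Intr (Ω : Type*) [Fintype Ω] [DecidableEq Ω] (t : G) (K : Subgroup G) : Prop where
  inv : Invol t
  comp : PC K (C t)
  tK : t ∈ K
  dc : DC Ω K

/-- `C(t) ∩ N(K)` -/
abbrev NN (t : G) (K : Subgroup G) : Subgroup G := C t ⊓ 𝐍[K]
/-- `C(t, K)` -/
abbrev QQ (t : G) (K : Subgroup G) : Subgroup G := centralizerOfPComponent 2 t K
/-- `O(C(t))` -/
abbrev Oc (t : G) : Subgroup G := Ox (C t)

theorem Two.mul {a b : G} (ha : Two a) (hb : Two b) (h : Commute a b) : Two (a * b) :=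
  two_of_mem (pg_two ha hb h) (mul_mem zl zr)

theorem Two.inv {a : G} (ha : Two a) : Two a⁻¹ := two_of_mem ha.pg (inv_mem (mem_zpowers a))

/-- the structure map -/
structure Bar {B Ω : Type*} [Group B] [Fintype Ω] [DecidableEq Ω] (z : B) (L : Subgroup B)
    (ρ : B →* Perm Ω) (t : G) (K : Subgroup G) (F : G → B) : Prop where
  cov : SCov z L ρ
  cen : ∀ b : B, Commute b z
  dc : DC Ω L
  inv : Invol t
  comp : PC K (C t)
  tK : t ∈ K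
  mul : ∀ {g h : G}, g ∈ NN t K → h ∈ NN t K → F (g * h) = F g * F h
  ker : ∀ {g : G}, g ∈ NN t K → (F g = 1 ↔ g ∈ Oc t)
  memL : ∀ {k : G}, k ∈ K → F k ∈ L
  surj : ∀ {b : B}, b ∈ L → ∃ k ∈ K, F k = b
  Ft : F t = z

variable [Finite G]

theorem exists_bar {G : Type u} [Group G] [Finite G] {n : ℕ} (hn : 7 ≤ n) {t : G} {K : Subgroup G}
    (h : Intr (Fin n) t K) : ∃ (B : Type u) (_ : Group B) (z : B) (L : Subgroup B)
      (ρ : B →* Perm (Fin n)) (F : G → B), Bar z L ρ t K F := by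
  classical
  have : ((Oc t).subgroupOf (NN t K)).Normal := normal_subgroupOf' fun g hg => nO hg.1
  have : (K.subgroupOf (NN t K)).Normal := normal_subgroupOf' inf_le_right
  have KN : K ≤ NN t K := le_inf h.comp.1 le_normalizer
  let f := QuotientGroup.mk' ((Oc t).subgroupOf (NN t K))
  have fs : Function.Surjective f := QuotientGroup.mk'_surjective _
  have fk : ∀ g, f g = 1 ↔ (g : G) ∈ Oc t := fun g => QuotientGroup.eq_one_iff g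
  let L := (K.subgroupOf (NN t K)).map f
  have hL : L.Normal := Normal.map inferInstance f fs
  let φ : K →* L := (f.comp (inclusion KN)).codRestrict L fun k => ⟨inclusion KN k, k.2, rfl⟩
  have φs : Function.Surjective φ := by
    rintro ⟨_, k, hk, rfl⟩
    exact ⟨⟨k, hk⟩, rfl⟩
  have φk : ∀ k, φ k = 1 ↔ k ∈ pPrimeCore 2 K := fun k => by
    rw [Subtype.ext_iff, ← mem_map_subtype]
    exact (fk _).trans (by
      show _ ↔ (k : G) ∈ Ox K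
      rw [h.comp.O_eq]; exact (and_iff_left k.2).symm)
  have e : K ⧸ pPrimeCore 2 K ≃* L := (QuotientGroup.quotientMulEquivOfEq (by
    ext k; exact (φk k).symm)).trans (QuotientGroup.quotientKerEquivOfSurjective φ φs)
  have zc : ∀ b, Commute b (f ⟨t, KN h.tK⟩) := fun b => by
    obtain ⟨g, rfl⟩ := fs b
    exact Commute.map (Subtype.ext (mC.1 g.2.1).eq) f
  have z1 : f ⟨t, KN h.tK⟩ ≠ 1 := fun e => h.inv.1 ((two_of_sq h.inv.2).eq_one (odd_O ((fk _).1 e)))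
  have z2 : f ⟨t, KN h.tK⟩ * f ⟨t, KN h.tK⟩ = 1 := by
    rw [← map_mul, ← f.map_one]; exact congrArg f (Subtype.ext h.inv.2)
  obtain ⟨z, π, hc⟩ := exists_scov hn (L := L) ⟨qs_congr h.comp.pqs.2 e, ⟨RankOne.even_of_invol
    (fun b _ => (zc b).eq) z1 z2, fun g hg => absurd (by rw [normalizer_eq_top]; trivial) hg⟩,
    fun g hg => absurd (cj_of_normal g L) hg, by rw [normalizer_eq_top, normalizer_eq_top]⟩
    (Comp.BN.nonsplit_congr e (MulEquiv.refl _) h.dc)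
  have tL : f ⟨t, KN h.tK⟩ ∈ L := ⟨_, h.tK, rfl⟩
  obtain rfl := (hc.ker tL ((hc.kerK (hc.cen tL)).2 fun b _ => (zc b).eq)).resolve_left z1
  let F : G → _ := fun g => if hg : g ∈ NN t K then f ⟨g, hg⟩ else 1
  have hF : ∀ {g} (hg : g ∈ NN t K), F g = f ⟨g, hg⟩ := fun hg => dif_pos hg
  refine ⟨_, inferInstance, _, L, MonoidHom.mk' π fun a b => hc.mul (zc a) (zc b), F, hc, zc,
    (dc_iff φ φs fun a ha => Nat.coprime_two_right.1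
      (Grp.orderOf_coprime_of_mem_pPrimeCore ((φk a).1 ha))).1 h.dc, h.inv, h.comp, h.tK,
    fun ha hb => ?_, fun ha => by rw [hF ha, fk], fun hk => by rw [hF (KN hk)]; exact ⟨_, hk, rfl⟩,
    ?_, hF _⟩
  · rw [hF ha, hF hb, hF (mul_mem ha hb), ← map_mul]; rfl
  · rintro _ ⟨k, hk, rfl⟩
    exact ⟨k, hk, hF k.2⟩

namespace Bar
variable {B Ω : Type*} [Group B] [Fintype Ω] [DecidableEq Ω] {z : B} {L : Subgroup B}
  {ρ : B →* Perm Ω} {t : G} {K : Subgroup G} {F : G → B} (h : Bar z L ρ t K F)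
include h

theorem KN {k : G} (hk : k ∈ K) : k ∈ NN t K := ⟨h.comp.1 hk, le_normalizer hk⟩
theorem Kc {k : G} (hk : k ∈ K) : Commute k t := mC.1 (h.comp.1 hk)
theorem ON {o : G} (ho : o ∈ Oc t) : o ∈ NN t K := ⟨ppcOf_le 2 _ ho, h.comp.O_le ho⟩
theorem LN {o : G} (ho : o ∈ Lx (C t)) : o ∈ NN t K := ⟨pLayerOf_le _ ho, h.comp.L_le ho⟩
theorem tN : t ∈ NN t K := h.KN h.tK
theorem two_t : Two t := two_of_sq h.inv.2
theorem F1 : F 1 = 1 := (h.ker (one_mem _)).2 (one_mem _)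
theorem FO {o : G} (ho : o ∈ Oc t) : F o = 1 := (h.ker (h.ON ho)).2 ho

theorem Finv {g : G} (hg : g ∈ NN t K) : F g⁻¹ = (F g)⁻¹ := by
  rw [eq_inv_iff_mul_eq_one, ← h.mul (inv_mem hg) hg, inv_mul_cancel, h.F1]

theorem Fpow {g : G} (hg : g ∈ NN t K) (n : ℕ) : F (g ^ n) = F g ^ n := by
  induction n with
  | zero => simpa using h.F1
  | succ n ih => rw [pow_succ, h.mul (pow_mem hg n) hg, ih, pow_succ]

theorem Fconj {g k : G} (hg : g ∈ NN t K) (hk : k ∈ NN t K) :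
    F (g * k * g⁻¹) = F g * F k * (F g)⁻¹ := by
  rw [h.mul (mul_mem hg hk) (inv_mem hg), h.mul hg hk, h.Finv hg]

theorem cmN {g k : G} (hg : g ∈ NN t K) (hk : k ∈ NN t K) : ⁅g, k⁆ ∈ NN t K :=
  have _ := h
  mul_mem (mul_mem (mul_mem hg hk) (inv_mem hg)) (inv_mem hk)

theorem cjN {g k : G} (hg : g ∈ NN t K) (hk : k ∈ NN t K) : g * k * g⁻¹ ∈ NN t K :=
  have _ := h
  mul_mem (mul_mem hg hk) (inv_mem hg)

theorem cjK {g k : G} (hg : g ∈ NN t K) (hk : k ∈ K) : g * k * g⁻¹ ∈ K :=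
  have _ := h
  conj_mem_of_mem_normalizer hg.2 hk

theorem cmK {g k : G} (hg : g ∈ NN t K) (hk : k ∈ K) : ⁅g, k⁆ ∈ K :=
  mul_mem (h.cjK hg hk) (inv_mem hk)

theorem cmK' {g k : G} (hk : k ∈ K) (hg : g ∈ NN t K) : ⁅k, g⁆ ∈ K := comm_symm (h.cmK hg hk)

theorem Fcm {g k : G} (hg : g ∈ NN t K) (hk : k ∈ NN t K) : F ⁅g, k⁆ = ⁅F g, F k⁆ := by
  rw [commutatorElement_def, h.mul (h.cjN hg hk) (inv_mem hk), h.Fconj hg hk, h.Finv hk,
    commutatorElement_def]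

theorem Fc {g k : G} (hg : g ∈ NN t K) (hk : k ∈ NN t K) (e : ⁅g, k⁆ ∈ Oc t) :
    Commute (F g) (F k) :=
  commutatorElement_eq_one_iff_commute.1 (by rw [← h.Fcm hg hk, h.FO e])

theorem Fc' {g k : G} (hg : g ∈ NN t K) (hk : k ∈ NN t K) (e : Commute g k) : Commute (F g) (F k) :=
  h.Fc hg hk (by rw [commutatorElement_eq_one_iff_commute.2 e]; exact one_mem _)

theorem cmO {g k : G} (hg : g ∈ NN t K) (hk : k ∈ NN t K) (e : Commute (F g) (F k)) :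
    ⁅g, k⁆ ∈ Oc t :=
  (h.ker (h.cmN hg hk)).1 (by rw [h.Fcm hg hk, commutatorElement_eq_one_iff_commute.2 e])

theorem eqF {g k : G} (hg : g ∈ NN t K) (hk : k ∈ NN t K) (e : F g = F k) : g⁻¹ * k ∈ Oc t :=
  (h.ker (mul_mem (inv_mem hg) hk)).1 (by rw [h.mul (inv_mem hg) hk, h.Finv hg, e, inv_mul_cancel])

theorem Feq {g k : G} (hg : g ∈ NN t K) (e : g⁻¹ * k ∈ Oc t) : F k = F g := by
  rw [show k = g * (g⁻¹ * k) by group, h.mul hg (h.ON e), h.FO e, mul_one]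

theorem Nof {g k : G} (hg : g ∈ NN t K) (e : g⁻¹ * k ∈ Oc t) : k ∈ NN t K := by
  rw [show k = g * (g⁻¹ * k) by group]; exact mul_mem hg (h.ON e)

theorem eq_of_two {g k : G} (hg : g ∈ NN t K) (hk : k ∈ NN t K) (g2 : Two g) (k2 : Two k)
    (c : Commute g k) (e : F g = F k) : g = k :=
  inv_mul_eq_one.1 ((g2.inv.mul k2 c.inv_left).eq_one (odd_O (h.eqF hg hk e)))

theorem odd {y : G} (hy : y ∈ NN t K) {m : ℕ} (hm : Odd m) (e : F y ^ m = 1) : Odd (orderOf y) :=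
  odd_of_pow hm (odd_O ((h.ker (pow_mem hy m)).1 (by rw [h.Fpow hy, e])))

theorem Fsq {x : G} (hx : x ∈ NN t K) (x2 : x * x = 1) : F x * F x = 1 := by
  rw [← h.mul hx hx, x2, h.F1]

theorem psq {x : G} (hx : x ∈ NN t K) (x2 : x * x = 1) : ρ (F x) * ρ (F x) = 1 := by
  rw [← map_mul, h.Fsq hx x2, map_one]

theorem pc {g k : G} (hg : g ∈ NN t K) (hk : k ∈ NN t K) (e : Commute g k) :
    Commute (ρ (F g)) (ρ (F k)) := (h.Fc' hg hk e).map ρ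

theorem ppow {y : G} (hy : y ∈ NN t K) : ρ (F y) ^ orderOf y = 1 := by
  rw [← map_pow, ← h.Fpow hy, pow_orderOf_eq_one, h.F1, map_one]

theorem eq_one_of_odd {y : G} (hy : y ∈ NN t K) (ho : Odd (orderOf y))
    (e : ρ (F y) * ρ (F y) = 1) : ρ (F y) = 1 := by
  rw [← pow_odd_of_sq e ho, h.ppow hy]

theorem mem_Q {g : G} : g ∈ QQ t K ↔ g ∈ C t ∧ ∀ k ∈ K, ⁅g, k⁆ ∈ Oc t :=
  mem_centralizerOfPComponent h.comp.1

theorem QN {g : G} (hg : g ∈ QQ t K) : g ∈ NN t K :=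
  ⟨(h.mem_Q.1 hg).1, centralizerOfPComponent_le_normalizer h.comp hg⟩

theorem QF {g : G} (hg : g ∈ QQ t K) {b : B} (hb : b ∈ L) : Commute (F g) b := by
  obtain ⟨k, hk, rfl⟩ := h.surj hb
  exact h.Fc (h.QN hg) (h.KN hk) ((h.mem_Q.1 hg).2 k hk)

theorem Qp {g : G} (hg : g ∈ QQ t K) : ρ (F g) = 1 :=
  (h.cov.kerK (h.cen _)).2 fun _ hb => (h.QF hg hb).symm

theorem Q_of {g : G} (hg : g ∈ NN t K) (e : ρ (F g) = 1) : g ∈ QQ t K :=
  h.mem_Q.2 ⟨hg.1, fun _ hk => h.cmO hg (h.KN hk)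
    (h.cov.commK ((h.cov.kerK (h.cen _)).1 e) (h.memL hk))⟩

theorem OQ {o : G} (ho : o ∈ Oc t) : o ∈ QQ t K := h.Q_of (h.ON ho) (by rw [h.FO ho, map_one])

theorem pt : ρ (F t) = 1 := by rw [h.Ft]; exact h.cov.map_t

theorem tQ : t ∈ QQ t K := h.Q_of h.tN h.pt

theorem cjQ {g q : G} (hg : g ∈ NN t K) (hq : q ∈ QQ t K) : g * q * g⁻¹ ∈ QQ t K :=
  conj_mem_of_mem_normalizer (inf_normalizer_le_normalizer_centralizerOfPComponent h.comp.1 hg) hq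

theorem other {I : Subgroup G} (hI : PC I (C t)) (hne : I ≠ K) {a : G} (ha : a ∈ I) : a ∈ QQ t K :=
  h.mem_Q.2 ⟨hI.1 ha, fun _ hk => hI.comm h.comp hne ha hk⟩

theorem mov {g k : G} (hg : Commute g t) (hn : g ∉ 𝐍[K]) (hk : k ∈ K) : g * k * g⁻¹ ∈ QQ t K :=
  h.mem_Q.2 ⟨mC.2 (conj_comm_left (h.Kc hk) hg), fun _ hl => h.comp.comm_mov (mC.2 hg) hn hk hl⟩

theorem KQ {s : G} (hs : s ∈ K) (hq : ρ (F s) = 1) (s2 : Two s) : s = 1 ∨ s = t :=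
  (h.cov.ker (h.memL hs) hq).imp
    (fun e => h.eq_of_two (h.KN hs) (one_mem _) s2 (two_of_sq (by simp)) (by simp) (by rw [e, h.F1]))
    fun e => h.eq_of_two (h.KN hs) h.tN s2 h.two_t (h.Kc hs) (by rw [e, h.Ft])

theorem pne {s : G} (hs : s ∈ K) (s2 : Invol s) (st : s ≠ t) : ρ (F s) ≠ 1 := fun e =>
  (h.KQ hs e (two_of_sq s2.2)).elim s2.1 st

theorem Fne {s : G} (hs : s ∈ K) (s2 : Invol s) (st : s ≠ t) : F s ≠ 1 ∧ F s ≠ z :=
  h.cov.ne_of_map (h.pne hs s2 st)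

theorem ne_of {s : G} (e : ρ (F s) ≠ 1) : s ≠ 1 ∧ s ≠ t :=
  ⟨fun e' => e (by rw [e', h.F1, map_one]), fun e' => e (by rw [e', h.pt])⟩

theorem lift {P : Subgroup G} (hP : IsPGroup 2 P) (PN : P ≤ NN t K) {b : B} (hb : b ∈ L)
    (c : ∀ p ∈ P, Commute (F p) b) : ∃ k ∈ K, F k = b ∧ ∀ p ∈ P, Commute p k := by
  obtain ⟨k, hk, rfl⟩ := h.surj hb
  have n : NN t K ≤ 𝐍[Oc t ⊓ K] := le_normalizer_inf (fun g hg => nO hg.1) inf_le_right
  obtain ⟨o, ho, e⟩ := exists_cent (odd_le (odd_Ox (C t)) inf_le_left) hP (PN.trans n) (k := k)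
    ⟨n (h.KN hk), fun p hp => ⟨h.cmO (h.KN hk) (PN hp) (c p hp).symm, h.cmK' hk (PN hp)⟩⟩
  exact ⟨k * o, mul_mem hk ho.2, by rw [h.mul (h.KN hk) (h.ON ho.1), h.FO ho.1, mul_one], e⟩

theorem two4 {k : G} (hk : k ∈ NN t K) (e : F k ^ 4 = 1) :
    ∃ n : ℕ, Two (k ^ n) ∧ F (k ^ n) = F k := by
  obtain ⟨m, ⟨j, rfl⟩, h2⟩ := exists_two_pow k
  refine ⟨(2 * j + 1) * (2 * j + 1), two_of_mem h2.pg (by rw [pow_mul]; exact npow_mem_zpowers _ _), ?_⟩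
  rw [h.Fpow hk, show (2 * j + 1) * (2 * j + 1) = 4 * (j * j + j) + 1 by ring, pow_succ, pow_mul, e]
  simp

theorem four {b : B} (e : b * b = 1 ∨ b * b = z) : b ^ 4 = 1 := by
  rw [show 4 = 2 * 2 from rfl, pow_mul, pow_two b]
  rcases e with e | e <;> rw [e]
  exacts [one_pow _, by rw [pow_two, h.cov.sq]]

theorem lift' {P : Subgroup G} (hP : IsPGroup 2 P) (PN : P ≤ NN t K) {b : B} (hb : b ∈ L)
    (c : ∀ p ∈ P, Commute (F p) b) (e : b * b = 1 ∨ b * b = z) :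
    ∃ k ∈ K, F k = b ∧ (∀ p ∈ P, Commute p k) ∧ Two k ∧ (b * b = 1 → k * k = 1) ∧
      (b * b = z → k * k = t) := by
  obtain ⟨k, hk, rfl, h1⟩ := h.lift hP PN hb c
  obtain ⟨n, h2, h3⟩ := h.two4 (h.KN hk) (h.four e)
  have hn := pow_mem hk n
  have h4 := h.mul (h.KN hn) (h.KN hn)
  have h5 := h2.mul h2 (Commute.refl _)
  exact ⟨k ^ n, hn, h3, fun p hp => (h1 p hp).pow_right n, h2,
    fun e => h.eq_of_two (h.KN (mul_mem hn hn)) (one_mem _) h5 (two_of_sq (by simp)) (by simp)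
      (by rw [h4, h3, e, h.F1]),
    fun e => h.eq_of_two (h.KN (mul_mem hn hn)) h.tN h5 h.two_t (h.Kc (mul_mem hn hn))
      (by rw [h4, h3, e, h.Ft])⟩

/-- the elements whose image commutes with `b` -/
def cF (b : B) : Subgroup G where
  carrier := {g | g ∈ NN t K ∧ Commute (F g) b}
  mul_mem' := fun ha hb => ⟨mul_mem ha.1 hb.1, h.mul ha.1 hb.1 ▸ ha.2.mul_left hb.2⟩
  one_mem' := ⟨one_mem _, h.F1 ▸ Commute.one_left b⟩
  inv_mem' := fun ha => ⟨inv_mem ha.1, h.Finv ha.1 ▸ ha.2.inv_left⟩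

theorem c1 {x : G} (hx : x ∈ NN t K) {b : B} (c : Commute (F x) b) :
    ∀ p ∈ zpowers x, Commute (F p) b := fun _ hp =>
  ((zpowers_le (H := h.cF b)).2 ⟨hx, c⟩ hp).2

theorem c2 {P : Subgroup G} (PN : P ≤ NN t K) {x : G} (hx : x ∈ NN t K) {b : B}
    (c' : ∀ p ∈ P, Commute (F p) b) (c : Commute (F x) b) :
    ∀ p ∈ P ⊔ zpowers x, Commute (F p) b := fun _ hp =>
  (sup_le (c := h.cF b) (fun p hp => ⟨PN hp, c' p hp⟩) (zpowers_le.2 ⟨hx, c⟩) hp).2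

theorem lift1 {x : G} (x2 : Two x) (hx : x ∈ NN t K) {b : B} (hb : b ∈ L) (c : Commute (F x) b) :
    ∃ k ∈ K, F k = b ∧ Commute x k := by
  obtain ⟨k, hk, e, h1⟩ := h.lift x2.pg (zpowers_le.2 hx) hb (h.c1 hx c)
  exact ⟨k, hk, e, h1 x (mem_zpowers x)⟩

theorem lift1' {x : G} (x2 : Two x) (hx : x ∈ NN t K) {b : B} (hb : b ∈ L) (c : Commute (F x) b)
    (e : b * b = 1 ∨ b * b = z) : ∃ k ∈ K, F k = b ∧ Commute x k ∧ Two k ∧ (b * b = 1 → k * k = 1) ∧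
      (b * b = z → k * k = t) := by
  obtain ⟨k, hk, e, h1, h2⟩ := h.lift' x2.pg (zpowers_le.2 hx) hb (h.c1 hx c) e
  exact ⟨k, hk, e, h1 x (mem_zpowers x), h2⟩

/-- the `SL₂(3)` over three 2-cycles -/
theorem key {x : G} (x2 : Two x) (hx : x ∈ NN t K) {a b c : Ω} (B3 : Blk3 (ρ (F x)) a b c) :
    ∃ y ∈ K, ∃ w ∈ K, F y ^ 3 = 1 ∧ ρ (F y) = rot (ρ (F x)) a b c ∧ ρ (F w) = tt (ρ (F x)) a b ∧
      Commute x y ∧ Commute x w ∧ w * w = t := by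
  obtain ⟨y', hy', w', hw', y3, ey, ew, cy', cw'⟩ := h.cov.key (h.cen _) B3
  obtain ⟨y, hy, rfl, cy⟩ := h.lift1 x2 hx hy' cy'
  have := h.cov.sq_tt hw' B3 ew
  obtain ⟨w, hw, rfl, cw, -, -, w2⟩ := h.lift1' x2 hx hw' cw' (Or.inr this)
  exact ⟨y, hy, w, hw, y3, ey, ew, cy, cw, w2 this⟩

theorem sl (h8 : 8 ≤ Fintype.card Ω) {x : G} (x2 : x * x = 1) (hx : x ∈ NN t K) :
    ∃ y ∈ K, ∃ w ∈ K, Commute x y ∧ Commute x w ∧ F ⁅y, w⁆ * F ⁅y, w⁆ = z := by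
  obtain ⟨y', hy', w', hw', cy', cw', e⟩ := h.cov.sl h8 (h.cen _) (h.psq hx x2)
  obtain ⟨y, hy, rfl, cy⟩ := h.lift1 (two_of_sq x2) hx hy' cy'
  obtain ⟨w, hw, rfl, cw⟩ := h.lift1 (two_of_sq x2) hx hw' cw'
  exact ⟨y, hy, w, hw, cy, cw, by rw [h.Fcm (h.KN hy) (h.KN hw)]; exact e⟩

theorem root (h8 : 8 ≤ Fintype.card Ω) {x : G} (x2 : x * x = 1) (hx : x ∈ NN t K) :
    ∃ w ∈ K, Commute x w ∧ w * w = t := by
  obtain ⟨y, hy, w, hw, cy, cw, e⟩ := h.sl h8 x2 hx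
  have hk := h.cmK (h.KN hy) hw
  obtain ⟨k, hk, -, c, -, -, e'⟩ := h.lift1' (two_of_sq x2) hx (h.memL hk)
    (h.Fc' hx (h.KN hk) (comm_comm cw.symm cy.symm).symm) (Or.inr e)
  exact ⟨k, hk, c, e' e⟩

theorem p_ne_of_sq {w : G} (hw : w ∈ K) (e : w * w = t) : ρ (F w) ≠ 1 := fun e1 => by
  rcases h.KQ hw e1 (Two.of_sq (e ▸ h.two_t)) with rfl | rfl
  · exact h.inv.1 (by simpa using e.symm)
  · exact h.inv.1 (e.symm.trans h.inv.2)

theorem liftQ {P : Subgroup G} (hP : IsPGroup 2 P) (PQ : P ≤ QQ t K) {b : B} (hb : b ∈ L) :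
    ∃ k ∈ K, F k = b ∧ ∀ p ∈ P, Commute p k :=
  h.lift hP (fun _ hp => h.QN (PQ hp)) hb fun _ hp => h.QF (PQ hp) hb

theorem exists_inv (h8 : 8 ≤ Fintype.card Ω) {P : Subgroup G} (hP : IsPGroup 2 P)
    (PQ : P ≤ QQ t K) : ∃ s ∈ K, Invol s ∧ s ≠ t ∧ ∀ p ∈ P, Commute p s := by
  obtain ⟨s', hs', s2, e⟩ := h.cov.exists_inv h8
  obtain ⟨s, hs, rfl, c, -, e1, -⟩ := h.lift' hP (fun _ hp => h.QN (PQ hp)) hs'
    (fun _ hp => h.QF (PQ hp) hs') (Or.inl s2)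
  exact ⟨s, hs, ⟨(h.ne_of e).1, e1 s2⟩, (h.ne_of e).2, c⟩

theorem conj_of_F {H : Subgroup G} {a b : G} (ha : a ∈ NN t K) (hb : b ∈ NN t K) (a2 : a * a = 1)
    (b2 : b * b = 1) (e : F a = F b) (aH : a ∈ H) (bH : b ∈ H) : ∃ g ∈ H, g * a * g⁻¹ = b := by
  obtain ⟨g, hg, e⟩ := conj_of_odd a2 b2 (by
    rw [← inv_eq_of_mul_eq_one_right a2]; exact odd_O (h.eqF ha hb e))
  exact ⟨g, zpowers_le.2 (mul_mem aH bH) hg, e⟩

theorem conj_inv (h11 : Fintype.card Ω ≤ 11) {P : Subgroup G} (hP : IsPGroup 2 P) (PQ : P ≤ QQ t K)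
    {x s : G} (hx : x ∈ K ⊓ 𝐂[P]) (x2 : Invol x) (xt : x ≠ t) (hs : s ∈ K ⊓ 𝐂[P]) (s2 : Invol s)
    (st : s ≠ t) : ∃ k ∈ K ⊓ 𝐂[P], k * x * k⁻¹ = s := by
  obtain ⟨b, hb, e⟩ := h.cov.conj_inv h11 (h.memL hx.1) (h.Fsq (h.KN hx.1) x2.2)
    (h.Fne hx.1 x2 xt).1 (h.Fne hx.1 x2 xt).2 (h.memL hs.1) (h.Fsq (h.KN hs.1) s2.2)
    (h.Fne hs.1 s2 st).1 (h.Fne hs.1 s2 st).2
  obtain ⟨k, hk, rfl, c⟩ := h.liftQ hP PQ hb
  have hk' : k ∈ K ⊓ 𝐂[P] := ⟨hk, c⟩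
  have h1 := mul_mem (mul_mem hk' hx) (inv_mem hk')
  obtain ⟨g, hg, e'⟩ := h.conj_of_F (h.KN h1.1) (h.KN hs.1) (x2.conj k).2 s2.2
    (by rw [h.Fconj (h.KN hk) (h.KN hx.1), e]) h1 hs
  exact ⟨g * k, mul_mem hg hk', by rw [← e']; group⟩

theorem conj_inv' (h11 : Fintype.card Ω ≤ 11) {x s : G} (hx : x ∈ K) (x2 : Invol x) (xt : x ≠ t)
    (hs : s ∈ K) (s2 : Invol s) (st : s ≠ t) : ∃ k ∈ K, k * x * k⁻¹ = s := by
  obtain ⟨k, hk, e⟩ := h.conj_inv h11 (P := ⊥) IsPGroup.of_bot bot_le (by simpa using hx) x2 xt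
    (by simpa using hs) s2 st
  exact ⟨k, hk.1, e⟩

/-- the 2-layer of `C_K(P)` -/
theorem layer {P : Subgroup G} (hP : IsPGroup 2 P) (PQ : P ≤ QQ t K) :
    PC (Lx (K ⊓ 𝐂[P])) (C t ⊓ 𝐂[P]) ∧ K ≤ Lx (K ⊓ 𝐂[P]) ⊔ Oc t ∧
      ∀ k ∈ K ⊓ 𝐂[P], Two k → k ∈ Lx (K ⊓ 𝐂[P]) := by
  obtain ⟨h1, h2⟩ := pLayerOf_inf_centralizer h.comp.pqs hP
    ((commutator_mono PQ le_rfl).trans (commutator_centralizerOfPComponent_le h.comp))
  have h3 := h2.trans (sup_le_sup_left (h.comp.O_eq.le.trans inf_le_left) _)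
  exact ⟨IsPComponentOf.trans h1 (h.comp.sn.inf_inf _), h3, fun k hk k2 => mem_of_two
    (PC.sn h1) (odd_Ox _) (fun g hg => nO (h.comp.1 hg.1)) k2 hk (h3 hk.1)⟩

theorem surjJ {J : Subgroup G} (h1 : J ≤ K) (h2 : K ≤ J ⊔ Oc t) {b : B} (hb : b ∈ L) :
    ∃ j ∈ J, F j = b := by
  obtain ⟨k, hk, rfl⟩ := h.surj hb
  obtain ⟨j, hj, o, ho, rfl⟩ :=
    (mem_sup_of_le_normalizer_right fun g hg => nO (h.comp.1 (h1 hg))).1 (h2 hk)
  exact ⟨j, hj, by rw [h.mul (h.KN (h1 hj)) (h.ON ho), h.FO ho, mul_one]⟩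

theorem dcJ {J : Subgroup G} (h1 : J ≤ K) (h2 : K ≤ J ⊔ Oc t) : DC Ω J :=
  (dc_iff (MonoidHom.mk' (fun j : J => (⟨F j, h.memL (h1 j.2)⟩ : L)) fun a b =>
    Subtype.ext (h.mul (h.KN (h1 a.2)) (h.KN (h1 b.2)))) (fun b => by
      obtain ⟨j, hj, e⟩ := h.surjJ h1 h2 b.2
      exact ⟨⟨j, hj⟩, Subtype.ext e⟩) fun a e => by
    rw [← Subgroup.orderOf_coe]
    exact odd_O ((h.ker (h.KN (h1 a.2))).1 (congrArg Subtype.val e))).2 h.dc

theorem conj (g : G) : Bar z L ρ (g * t * g⁻¹) cj(g, K) fun k => F (g⁻¹ * k * g) := by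
  have m : ∀ {k}, k ∈ NN (g * t * g⁻¹) cj(g, K) → g⁻¹ * k * g ∈ NN t K := fun hk => by
    rwa [NN, C_cj, normalizer_cj, ← cj_inf, mem_cj] at hk
  refine ⟨h.cov, h.cen, h.dc, h.inv.conj g, C_cj g t ▸ IsPComponentOf.cj h.comp g,
    conj_mem_cj g h.tK, fun ha hb => ?_, fun ha => ?_, fun hk => h.memL (mem_cj.1 hk), fun hb => ?_,
    by simpa [mul_assoc] using h.Ft⟩
  · rw [← h.mul (m ha) (m hb)]; congr 1; group
  · rw [h.ker (m ha), Oc, Oc, Oc_cj, mem_cj]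
  · obtain ⟨k, hk, e⟩ := h.surj hb
    exact ⟨_, conj_mem_cj g hk, by simpa [mul_assoc] using e⟩

end Bar

end Cfsg.Agent.Sol
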