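import Cfsg.Agent.Sol.P2
import Cfsg.Agent.PLocal.CoreBar
import Cfsg.Agent.PLocal.Standard
import Cfsg.Agent.GW.BTools
import Cfsg.Agent.Bender.Basic
import Cfsg.Agent.Inv.IsolatedIff

/-!
# Local lemmas on 2-components of centralisers of involutions
-/

set_option autoImplicit false
set_option linter.unusedSectionVars false

namespace Cfsg.Agent.Sol

open Subgroup Cfsg Cfsg.Agent.PLocal Cfsg.Agent.PLocal.Amb Cfsg.Agent.Suz Cfsg.Agent.Bender
open scoped commutatorElement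

variable {G : Type*} [Group G]

/-- `O(X)` -/
abbrev Ox (X : Subgroup G) : Subgroup G := ppcOf 2 X
/-- `L_{2'}(X)` -/
abbrev Lx (X : Subgroup G) : Subgroup G := pLayerOf 2 X
/-- 2-components -/
abbrev PC (K X : Subgroup G) : Prop := IsPComponentOf 2 K X
/-- 2-elements -/
def Two (g : G) : Prop := ∃ k : ℕ, g ^ 2 ^ k = 1

theorem mC {a g : G} : g ∈ C a ↔ Commute g a := mem_centralizer_singleton_iff

theorem two_of_sq {g : G} (h : g * g = 1) : Two g := ⟨1, by rw [pow_one, pow_two, h]⟩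

theorem Two.of_sq {g : G} (h : Two (g * g)) : Two g := by
  obtain ⟨k, e⟩ := h
  exact ⟨k + 1, by rw [pow_succ', pow_mul, pow_two, e]⟩

theorem Two.pg {g : G} (h : Two g) : IsPGroup 2 (zpowers g) := isPGroup_zpowers h

theorem two_of_mem {P : Subgroup G} (h : IsPGroup 2 P) {g : G} (hg : g ∈ P) : Two g :=
  isPGroup_iff.1 h g hg

theorem Two.conj {g : G} (h : Two g) (c : G) : Two (c * g * c⁻¹) := by
  obtain ⟨k, e⟩ := h
  exact ⟨k, by rw [conj_pow, e]; group⟩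

theorem Two.eq_one {g : G} (h : Two g) (ho : Odd (orderOf g)) : g = 1 :=
  eq_one_of_isPGroup_of_coprime h.pg (mem_zpowers g) (Nat.coprime_two_right.2 ho)

theorem conj_comm {a b : G} (h : Commute a b) (g : G) : Commute (g * a * g⁻¹) (g * b * g⁻¹) :=
  h.map (MulAut.conj g)

theorem conj_comm_left {g a b : G} (h : Commute a b) (hg : Commute g b) :
    Commute (g * a * g⁻¹) b := (hg.mul_left h).mul_left hg.inv_left

theorem comm_comm {g a b : G} (h : Commute a b) (hg : Commute g b) : Commute ⁅g, a⁆ b :=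
  (conj_comm_left h hg).mul_left h.inv_left

theorem pg_sup {P : Subgroup G} (hP : IsPGroup 2 P) {a : G} (ha : Two a)
    (h : ∀ p ∈ P, Commute p a) : IsPGroup 2 (P ⊔ zpowers a : Subgroup G) :=
  isPGroup_sup hP ha.pg (le_trans (fun p hp => by
    rw [Amb.centralizer_zpowers]; exact mC.2 (h p hp)) (centralizer_le_normalizer' _))

theorem pg_two {a b : G} (ha : Two a) (hb : Two b) (h : Commute a b) :
    IsPGroup 2 (zpowers a ⊔ zpowers b : Subgroup G) :=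
  pg_sup ha.pg hb fun _ ⟨n, e⟩ => e ▸ h.zpow_left n

theorem zle {a b : G} {H : Subgroup G} (ha : a ∈ H) (hb : b ∈ H) : zpowers a ⊔ zpowers b ≤ H :=
  sup_le (zpowers_le.2 ha) (zpowers_le.2 hb)

theorem zl {a : G} {H : Subgroup G} : a ∈ zpowers a ⊔ H := mem_sup_left (mem_zpowers a)
theorem zr {a : G} {H : Subgroup G} : a ∈ H ⊔ zpowers a := mem_sup_right (mem_zpowers a)

/-- the elements normalising `O` and centralising `S` modulo `O` -/
def modO (O : Subgroup G) (S : Set G) : Subgroup G where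
  carrier := {g | g ∈ 𝐍[O] ∧ ∀ s ∈ S, ⁅g, s⁆ ∈ O}
  mul_mem' := fun {a b} ha hb => ⟨mul_mem ha.1 hb.1, fun s hs => by
    rw [show ⁅a * b, s⁆ = a * ⁅b, s⁆ * a⁻¹ * ⁅a, s⁆ by group]
    exact mul_mem (conj_mem_of_mem_normalizer ha.1 (hb.2 s hs)) (ha.2 s hs)⟩
  one_mem' := ⟨one_mem _, fun s _ => by simp⟩
  inv_mem' := fun {a} ha => ⟨inv_mem ha.1, fun s hs => by
    rw [show ⁅a⁻¹, s⁆ = a⁻¹ * ⁅a, s⁆⁻¹ * a by group]
    exact inv_conj_mem_of_mem_normalizer ha.1 (inv_mem (ha.2 s hs))⟩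

theorem mem_modO {O : Subgroup G} {S : Set G} {g : G} :
    g ∈ modO O S ↔ g ∈ 𝐍[O] ∧ ∀ s ∈ S, ⁅g, s⁆ ∈ O := Iff.rfl

theorem comm_symm {O : Subgroup G} {a b : G} (h : ⁅a, b⁆ ∈ O) : ⁅b, a⁆ ∈ O := by
  rw [← commutatorElement_inv]; exact inv_mem h

theorem le_modO {O P : Subgroup G} (hP : P ≤ 𝐍[O]) : O ≤ modO O P := fun o ho =>
  ⟨le_normalizer ho, fun s hs => by
    rw [show ⁅o, s⁆ = o * (s * o⁻¹ * s⁻¹) by group]
    exact mul_mem ho (conj_mem_of_mem_normalizer (hP hs) (inv_mem ho))⟩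

theorem modO_of_le {O P : Subgroup G} {S : Set G} {g : G} (hg : g ∈ modO O S)
    (h : P ≤ closure S) (hS : ∀ s ∈ S, s ∈ 𝐍[O]) : g ∈ modO O P := ⟨hg.1, fun p hp => by
  have : closure S ≤ modO O {g} := (closure_le _).2 fun s hs =>
    ⟨hS s hs, fun _ e => e ▸ comm_symm (hg.2 s hs)⟩
  exact comm_symm ((this (h hp)).2 g rfl)⟩

theorem modO_zpowers {O : Subgroup G} {g w : G} (hg : g ∈ 𝐍[O]) (hw : w ∈ 𝐍[O]) (h : ⁅g, w⁆ ∈ O) :
    g ∈ modO O (zpowers w) :=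
  modO_of_le (S := {w}) ⟨hg, fun _ e => e ▸ h⟩ (zpowers_eq_closure w).le fun _ e => e ▸ hw

variable [Finite G]

theorem odd_Ox (X : Subgroup G) : Odd (Nat.card (Ox X)) := Nat.coprime_two_right.1 (coprime_ppcOf 2 X)

theorem odd_of_mem {O : Subgroup G} (h : Odd (Nat.card O)) {g : G} (hg : g ∈ O) : Odd (orderOf g) :=
  h.of_dvd_nat (O.orderOf_dvd_natCard hg)

theorem odd_O {X : Subgroup G} {g : G} (hg : g ∈ Ox X) : Odd (orderOf g) := odd_of_mem (odd_Ox X) hg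

theorem odd_le {A B : Subgroup G} (h : Odd (Nat.card B)) (hle : A ≤ B) : Odd (Nat.card A) :=
  h.of_dvd_nat (card_dvd_of_le hle)

theorem odd_card_of {A : Subgroup G} (h : ∀ a ∈ A, Odd (orderOf a)) : Odd (Nat.card A) := by
  by_contra hn
  obtain ⟨t, ht, h2⟩ := Inv.exists_involution_of_even (Nat.not_odd_iff_even.1 hn)
  have := h t ht
  rw [h2] at this
  exact absurd this (by decide)

theorem le_Ox {A X : Subgroup G} (hA : A ≤ X) (hn : X ≤ 𝐍[A]) (ho : Odd (Nat.card A)) : A ≤ Ox X :=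
  Grp.le_map_pPrimeCore hA hn (Nat.coprime_two_right.2 ho)

theorem nO {X : Subgroup G} {g : G} (hg : g ∈ X) : g ∈ 𝐍[Ox X] := le_normalizer_ppcOf 2 X hg

theorem conj_O {X : Subgroup G} {g o : G} (hg : g ∈ X) (ho : o ∈ Ox X) : g * o * g⁻¹ ∈ Ox X :=
  conj_mem_of_mem_normalizer (nO hg) ho

theorem comm_O {X : Subgroup G} {g o : G} (hg : g ∈ X) (ho : o ∈ Ox X) : ⁅g, o⁆ ∈ Ox X :=
  mul_mem (conj_O hg ho) (inv_mem ho)

theorem odd_of_pow {g : G} {m : ℕ} (hm : Odd m) (h : Odd (orderOf (g ^ m))) : Odd (orderOf g) :=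
  (hm.mul h).of_dvd_nat (orderOf_dvd_of_pow_eq_one (by rw [pow_mul, pow_orderOf_eq_one]))

theorem exists_two_pow (g : G) : ∃ m, Odd m ∧ Two (g ^ m) := by
  obtain ⟨j, m, hm, e⟩ := Nat.exists_eq_two_pow_mul_odd (orderOf_pos g).ne'
  exact ⟨m, hm, j, by rw [← pow_mul, mul_comm, ← e, pow_orderOf_eq_one]⟩

theorem Ox_cj (g : G) (X : Subgroup G) : Ox cj(g, X) = cj(g, Ox X) := GW.BT.ppcOf_cj 2 g X

theorem C_cj (g a : G) : C (g * a * g⁻¹) = cj(g, C a) := centralizer_singleton_conj g a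

theorem Oc_cj (g a : G) : Ox (C (g * a * g⁻¹)) = cj(g, Ox (C a)) := by rw [C_cj, Ox_cj]

theorem exists_cent {O P : Subgroup G} (hO : Odd (Nat.card O)) (hP : IsPGroup 2 P) (nP : P ≤ 𝐍[O])
    {k : G} (hk : k ∈ modO O P) : ∃ o ∈ O, k * o ∈ 𝐂[P] := by
  have := le_inf_centralizer_sup hP (Nat.coprime_two_right.2 hO) (le_modO nP) (fun g hg => hg.1)
    (commutator_le.2 fun p hp g hg => comm_symm (hg.2 p hp)) hk
  obtain ⟨a, ha, b, hb, rfl⟩ := (mem_sup_of_le_normalizer_right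
    (inf_le_left.trans fun g (hg : g ∈ modO O P) => hg.1)).1 this
  exact ⟨b⁻¹, inv_mem hb, by simpa using ha.2⟩

theorem adj {O A P : Subgroup G} (hO : Odd (Nat.card O)) (hA : IsPGroup 2 A) (hP : IsPGroup 2 P)
    (nP : P ≤ 𝐍[O]) (h : A ≤ modO O P) : ∃ o ∈ O, ∀ a ∈ A, ∀ p ∈ P, Commute (o * a * o⁻¹) p := by
  have h1 : O ⊔ A ≤ modO O P := sup_le (le_modO nP) h
  have h2 : P ≤ 𝐍[O ⊔ A] := le_normalizer_iff_commutator_le_right.2
    (commutator_le.2 fun p hp g hg => mem_sup_left (comm_symm ((h1 hg).2 p hp)))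
  obtain ⟨T, hT, hPT⟩ := exists_isSyl_ge hP (le_sup_left : P ≤ P ⊔ (O ⊔ A))
  obtain ⟨g, hg, h3⟩ := hT.exists_cj_le hA (le_sup_right.trans le_sup_right)
  obtain ⟨p, hp, x, hx, rfl⟩ := (mem_sup_of_le_normalizer_right h2).1 hg
  obtain ⟨o, ho, b, hb, rfl⟩ := (mem_sup_of_le_normalizer_left fun a ha => (h ha).1).1 hx
  refine ⟨o, ho, fun a ha q hq => ?_⟩
  have h4 : o * a * o⁻¹ ∈ T := by
    have := h3 (conj_mem_cj _ (mul_mem (mul_mem (inv_mem hb) ha) hb))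
    have := mul_mem (mul_mem (inv_mem (hPT hp)) this) (hPT hp)
    convert this using 1; group
  have h5 := (h1 (mul_mem (mul_mem (mem_sup_left ho) (mem_sup_right ha))
    (mem_sup_left (inv_mem ho)))).2 q hq
  exact commutatorElement_eq_one_iff_commute.1 ((two_of_mem hT.pgrp (mul_mem (mul_mem (mul_mem h4
    (hPT hq)) (inv_mem h4)) (inv_mem (hPT hq)))).eq_one (odd_of_mem hO h5))

theorem adj1 {X : Subgroup G} {a w : G} (ha : Two a) (hw : Two w) (aX : a ∈ X) (wX : w ∈ X)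
    (h : ⁅a, w⁆ ∈ Ox X) : ∃ o ∈ Ox X, Commute (o * a * o⁻¹) w := by
  obtain ⟨o, ho, e⟩ := adj (odd_Ox X) ha.pg hw.pg (zpowers_le.2 (nO wX))
    (zpowers_le.2 (modO_zpowers (nO aX) (nO wX) h))
  exact ⟨o, ho, e a (mem_zpowers a) w (mem_zpowers w)⟩

/-- two involutions congruent modulo an odd order group -/
theorem conj_of_odd {a b : G} (ha : a * a = 1) (hb : b * b = 1) (h : Odd (orderOf (a * b))) :
    ∃ g ∈ zpowers (a * b), g * a * g⁻¹ = b := by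
  obtain ⟨k, e⟩ := Inv.exists_pow_conj_of_odd ha hb h
  exact ⟨_, pow_mem (mem_zpowers _) k, e⟩

theorem exists_zeta {a b : G} (ha : a * a = 1) (hb : b * b = 1) (h : Two (a * b)) (hne : a ≠ b) :
    ∃ z ∈ zpowers (a * b), Invol z ∧ Commute z a ∧ Commute z b ∧
      ∃ g ∈ zpowers (a * b), a * z = g * a * g⁻¹ ∨ a * z = g * b * g⁻¹ := by
  obtain ⟨z, hz, h1, h2, h3⟩ := Inv.exists_central_involution_of_even ha hb (by
    rw [← Nat.not_odd_iff_even]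
    exact fun ho => hne (by
      rw [eq_inv_of_mul_eq_one_left (h.eq_one ho), inv_eq_of_mul_eq_one_right hb]))
  exact ⟨z, hz, invol_iff_orderOf.2 h1, h2, h3, Inv.mul_zpowers_conj ha hb hz⟩

namespace PC
variable {K I X : Subgroup G}

theorem cj' (h : PC K X) {g : G} (hg : g ∈ X) : PC cj(g, K) X := by
  simpa only [cj_of_mem hg] using IsPComponentOf.cj h g

theorem le_L (h : PC K X) : K ≤ Lx X := le_map_pLayer h.1 h.2

theorem nrm (h : PC K X) {A : Subgroup X} (hA : A ≤ 𝐍[K.subgroupOf X]) : A.map X.subtype ≤ 𝐍[K] := by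
  rintro _ ⟨a, ha, rfl⟩
  have := hA ha
  rwa [normalizer_eq_subgroupOf, map_subgroupOf_of_le h.1] at this

theorem L_le (h : PC K X) : Lx X ≤ 𝐍[K] := h.nrm (pLayer_le_normalizer_pcomp h.2)

theorem O_le (h : PC K X) : Ox X ≤ 𝐍[K] := h.nrm (pPrimeCore_le_normalizer_pcomp h.2)

theorem comm (h : PC K X) (h' : PC I X) (hne : K ≠ I) {a b : G} (ha : a ∈ K) (hb : b ∈ I) :
    ⁅a, b⁆ ∈ Ox X :=
  IsPComponentOf.commutator_le_of_ne h h' hne (commutator_mem_commutator ha hb)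

theorem comm_mov (h : PC K X) {g : G} (hg : g ∈ X) (hn : g ∉ 𝐍[K]) {a b : G} (ha : a ∈ K)
    (hb : b ∈ K) : ⁅g * a * g⁻¹, b⁆ ∈ Ox X :=
  (h.cj' hg).comm h (fun e => hn (cj_eq_iff.1 e)) (conj_mem_cj g ha) hb

theorem sn (h : PC K X) : Grp.SnIn K X := (isPComponentOf_iff.1 h).1

theorem pqs (h : PC K X) : IsPQS 2 K := IsPComponentOf.isPQS h

theorem O_eq (h : PC K X) : Ox K = Ox X ⊓ K := ppcOf_eq_inf_of_subnormal h.1 h.2.1

/-- L-balance -/
theorem bal {a : G} (h : PC K (X ⊓ C a)) (ha : Invol a) (aX : a ∈ X) : K ≤ Lx X := by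
  have h1 : K ≤ X := h.1.trans inf_le_left
  have := IsPComponentOf.le_pLayer_two (K := K.subgroupOf X) (R := (zpowers a).subgroupOf X) (by
    rw [centralizer_subgroupOf (zpowers_le.2 aX), Amb.centralizer_zpowers,
      ← inf_subgroupOf_left (centralizer _)]
    exact IsPComponentOf.subgroupOf h h1) (Amb.isPGroup_subgroupOf (two_of_sq ha.2).pg X)
  rw [← map_subgroupOf_of_le h1]
  exact map_mono this

end PC

theorem mem_of_two {J Y O : Subgroup G} (h : Grp.SnIn J Y) (hO : Odd (Nat.card O)) (hY : Y ≤ 𝐍[O])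
    {g : G} (h2 : Two g) (hg : g ∈ Y) (h1 : g ∈ J ⊔ O) : g ∈ J := by
  refine PGen.le_of_le_sup_ppcOf (p := 2) (I := zpowers g) (fun H hH x hx =>
    hH x hx (two_of_mem h2.pg hx)) (zpowers_le.2 hg) h (zpowers_le.2 ?_) (mem_zpowers g)
  have : g ∈ (J ⊔ O) ⊓ Y := ⟨h1, hg⟩
  rw [sup_inf_of_le_normalizer h.le (h.le.trans hY)] at this
  exact sup_le_sup_left (le_Ox inf_le_right (le_normalizer_inf hY le_normalizer)
    (odd_le hO inf_le_left)) J this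

/-- the elements of the layer centralise modulo the core what all components do -/
theorem comm_L {X : Subgroup G} {e w : G} (h : ∀ I, PC I X → ∀ k ∈ I, ⁅k, e⁆ ∈ Ox X)
    (hw : w ∈ Lx X) : ⁅w, e⁆ ∈ Ox X :=
  ((map_pLayer_le_iff (X := modO (Ox X) {e})).2 (fun I h1 h2 k hk =>
    ⟨nO (h1 hk), fun _ e => e ▸ h I ⟨h1, h2⟩ k hk⟩) hw).2 e rfl

theorem comm_L' {X I : Subgroup G} (hI : PC I X) {e w : G} (he : e ∈ I)
    (h : ∀ k ∈ I, ⁅k, e⁆ ∈ Ox X) (hw : w ∈ Lx X) : ⁅w, e⁆ ∈ Ox X :=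
  comm_L (fun J hJ k hk => by
    by_cases e1 : J = I
    exacts [h k (e1 ▸ hk), hJ.comm hI e1 hk he]) hw

theorem exists_pc_cb {Y A : Subgroup G} (hA : A ≤ Y) {J' : Subgroup (Y ⧸ pPrimeCore 2 Y)}
    (h : PC J' (cb 2 Y A)) : ∃ J, PC J A ∧ cb 2 Y J = J' := by
  obtain ⟨J, hJ, e⟩ := exists_pcomp_map_eq ((cbHom 2 Y).subgroupMap (A.subgroupOf Y))
    ((cbHom 2 Y).subgroupMap_surjective _) (by
      rw [ker_subgroupMap]
      exact (coprime_ker_cbHom 2 Y).coprime_dvd_left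
        (card_comap_dvd_of_injective _ _ (subtype_injective _))) h.2
  have h1 := IsPComponentOf.map (isPComponentOf_map_subtype hJ) Y.subtype (by
    rw [Ne, map_eq_bot_iff_of_injective _ (subtype_injective _),
      map_eq_bot_iff_of_injective _ (subtype_injective _)]
    exact pcomp_ne_bot hJ)
  rw [map_subgroupOf_of_le hA] at h1
  refine ⟨_, h1, ?_⟩
  rw [cb, map_subtype_subgroupOf, ← map_subgroupOf_of_le h.1, ← e, map_map, map_map]
  rfl

theorem mem_O_of_cb {Y : Subgroup G} {a b : Y} (h : cbHom 2 Y a = cbHom 2 Y b) :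
    (a : G)⁻¹ * b ∈ Ox Y := ⟨a⁻¹ * b, QuotientGroup.eq.1 h, rfl⟩

/-- the diagonal component -/
theorem exists_diag {X I : Subgroup G} (hI : PC I X) {v : G} (hv : Invol v) (vX : v ∈ X)
    (hn : v ∉ 𝐍[I]) : ∃ J, PC J (X ⊓ C v) ∧
      (∀ j ∈ J, ∃ k ∈ I, (k * (v * k * v⁻¹))⁻¹ * j ∈ Ox X) ∧
      ∀ k ∈ I, ∃ j ∈ J, (k * (v * k * v⁻¹))⁻¹ * j ∈ Ox X := by
  have hc := isCycled_of_comp (IsPComponentOf.comp_cb hI)
    (orderOf_cbHom (a := ⟨v, vX⟩) (invol_iff_orderOf.1 hv)) fun e => hn (hI.nrm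
      (A := zpowers ⟨v, vX⟩) (zpowers_le.2 (comap_normalizer_le_normalizer_pcomp hI.2 e))
      ⟨_, mem_zpowers _, rfl⟩)
  have h1 := isPComponentOf_two_of_comp hc.range_le_centralizer
    (hc.comp_range (IsPComponentOf.comp_cb hI))
  rw [← cb_centralizer_singleton (k := 1) (by rw [pow_one, pow_two]; exact hv.2),
    ← cb_inf_right (centralizer _), inf_comm] at h1
  obtain ⟨J, hJ, e⟩ := exists_pc_cb inf_le_left h1
  have key : ∀ (k : X) (hk : cbHom 2 X k ∈ cb 2 X I) (j : X),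
      hc.diagHom ⟨_, hk⟩ = cbHom 2 X j → ((k : G) * (v * k * v⁻¹))⁻¹ * j ∈ Ox X := fun k hk j e => by
    rw [hc.diagHom_apply, ← map_mul, ← map_pow] at e
    convert mem_O_of_cb e using 3
    rw [inv_eq_of_mul_eq_one_right hv.2, pow_two]
    simp [mul_assoc]
  refine ⟨J, hJ, fun j hj => ?_, fun k hk => ?_⟩
  · have : cbHom 2 X ⟨j, (hJ.1 hj).1⟩ ∈ hc.diagHom.range := e ▸ mem_cb hj
    obtain ⟨⟨_, k, hk, rfl⟩, e1⟩ := this
    exact ⟨k, hk, key k _ _ e1⟩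
  · have : hc.diagHom ⟨_, mem_cb (a := ⟨k, hI.1 hk⟩) hk⟩ ∈ cb 2 X J := e ▸ ⟨_, rfl⟩
    obtain ⟨j, hj, e1⟩ := this
    exact ⟨j, hj, key ⟨k, hI.1 hk⟩ _ j e1.symm⟩

/-- a 2-element congruent to `k k^v` lies in the layer of `C(v)` -/
theorem diag_mem {a v k w : G} {I : Subgroup G} (ha : Invol a) (hI : PC I (C a)) (hv : Invol v)
    (va : Commute v a) (hn : v ∉ 𝐍[I]) (hk : k ∈ I) (h2 : Two w) (wa : Commute w a)
    (wv : Commute w v) (h : (k * (v * k * v⁻¹))⁻¹ * w ∈ Ox (C a)) : w ∈ Lx (C v) := by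
  obtain ⟨J, hJ, -, h1⟩ := exists_diag hI hv (mC.2 va) hn
  obtain ⟨j, hj, e⟩ := h1 k hk
  refine PC.bal (inf_comm (C a) (C v) ▸ hJ) ha (mC.2 va.symm) (mem_of_two hJ.sn (odd_Ox (C a))
    (fun g hg => nO hg.1) h2 ⟨mC.2 wa, mC.2 wv⟩ ?_)
  rw [show w = j * (((k * (v * k * v⁻¹))⁻¹ * j)⁻¹ * ((k * (v * k * v⁻¹))⁻¹ * w)) by group]
  exact mul_mem_sup hj (mul_mem (inv_mem e) h)

end Cfsg.Agent.Sol
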