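import Cfsg.Agent.LyMc.Std4

/-!
# Permutation lemmas for intrinsic components `2.A_n`
-/

set_option autoImplicit false

namespace Cfsg.Agent.LyMc

open Equiv Equiv.Perm Subgroup Cfsg.Agent.KSG

section Perm
variable {Ω : Type*} [DecidableEq Ω]

theorem pow_odd_of_sq {G : Type*} [Group G] {σ : G} (h : σ * σ = 1) {m : ℕ} (hm : Odd m) :
    σ ^ m = σ := by
  obtain ⟨k, rfl⟩ := hm
  rw [pow_succ, pow_mul, pow_two, h, one_pow, one_mul]

omit [DecidableEq Ω] in
theorem blk3_of_odd {τ η : Perm Ω} (hτ : τ * τ = 1) (h : Commute τ η) {m : ℕ} (hm : Odd m)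
    (h3 : η ^ m = 1) {p : Ω} (hp : τ p ≠ p) (hη : η p ≠ p) : Blk3 τ p (η p) (η (η p)) := by
  have e : ∀ z, τ (η z) = η (τ z) := fun z => by rw [← Perm.mul_apply, h.eq, Perm.mul_apply]
  have e2 := sq_apply hτ
  have i := η.injective
  have f := fun a => fix_of_odd hm h3 (a := a)
  have f2 : ∀ a, η (η (η (η a))) = a → η (η a) = a := fun a ha =>
    fix_of_odd (η := η * η) hm (by rw [← pow_two, ← pow_mul, mul_comm, pow_mul, h3, one_pow]) ha
  have n1 : τ p ≠ η p := fun h1 => hη (f p (by rw [← h1, ← e, ← h1, e2]))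
  refine ⟨hτ, hp, ?_, ?_, hη.symm, fun h1 => hη (f p h1.symm), i.ne hη.symm, n1, fun h1 => ?_, ?_⟩
  · rw [e]; exact i.ne hp
  · rw [e, e]; exact i.ne (i.ne hp)
  · exact hη (f p (f2 p (by rw [← h1, ← e, ← e, ← h1, e2])))
  · rw [e]; exact i.ne n1

theorem Blk3.tt_sq {σ : Perm Ω} {a b c : Ω} (h : Blk3 σ a b c) : tt σ a b * tt σ a b = 1 := by
  rw [← pow_two, tt, (blk_comm (sq_apply h.sq) a b).mul_pow, pow_two, pow_two, swap_mul_self,
    swap_mul_self, mul_one]

theorem Blk3.tt_fst {σ : Perm Ω} {a b c : Ω} (h : Blk3 σ a b c) : tt σ a b a = σ a := by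
  have := sq_apply h.sq a; have := sq_apply h.sq b
  obtain ⟨sq, _, _, _, _, _, _, _, _, _⟩ := h
  simp only [tt, Perm.mul_apply, swap_apply_def]; grind

theorem Blk3.tt_thd {σ : Perm Ω} {a b c : Ω} (h : Blk3 σ a b c) : tt σ a b c = c := by
  have := sq_apply h.sq a; have := sq_apply h.sq b; have := sq_apply h.sq c
  obtain ⟨sq, _, _, _, _, _, _, _, _, _⟩ := h
  simp only [tt, Perm.mul_apply, swap_apply_def]; grind

/-- an element of odd order whose commutators with the products of two 2-cycles of `τ` have odd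
order fixes what `τ` moves -/
theorem oddfix {τ o : Perm Ω} (hτ : τ * τ = 1) (ho : Commute τ o) {m : ℕ} (hm : Odd m)
    (om : o ^ m = 1) (H : ∀ a b c, Blk3 τ a b c →
      ∃ k, Odd k ∧ (o * tt τ a b * o⁻¹ * (tt τ a b)⁻¹) ^ k = 1) {p : Ω} (hp : τ p ≠ p) : o p = p := by
  by_contra hη
  have B := blk3_of_odd hτ ho hm om hp hη
  obtain ⟨k, hk, e⟩ := H _ _ _ B
  rw [conj_tt ho.symm, B.tt_mul, pow_odd_of_sq B.swap.tt_sq hk] at e
  have := B.swap.tt_fst
  rw [e] at this
  exact hp this.symm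

variable [Fintype Ω]

theorem fix_of_comm_four' (hc : Fintype.card Ω ≤ 11) {ρ η : Perm Ω} (h4 : (ρ * ρ) * (ρ * ρ) = 1)
    (h : Commute ρ η) {p : Ω} (h3 : (η ^ 3) p = p) (hp : (ρ * ρ) p ≠ p) : η p = p := by
  by_contra hη
  have h4' : ρ ^ 4 = 1 := by rw [← h4]; simp only [pow_succ, pow_zero, one_mul, mul_assoc]
  have h5 : ∀ k, (η ^ (3 * k)) p = p := fun k => by
    rw [pow_mul]; exact pow_apply_eq_self_of_apply_eq_self h3 k
  have e12 : Function.IsPeriodicPt (ρ * η) 12 p := by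
    rw [Function.IsPeriodicPt, Function.IsFixedPt, iterate_eq_pow, h.mul_pow,
      show 12 = 4 * 3 from rfl, pow_mul, h4', mul_comm 4, one_pow, one_mul, h5]
  have e6 : ¬ Function.IsPeriodicPt (ρ * η) 6 p := by
    rw [Function.IsPeriodicPt, Function.IsFixedPt, iterate_eq_pow, h.mul_pow, Perm.mul_apply,
      show (η ^ 6) p = p from h5 2, show 6 = 4 + 2 from rfl, pow_add, h4', pow_two]
    simpa using hp
  have e4 : ¬ Function.IsPeriodicPt (ρ * η) 4 p := by
    rw [Function.IsPeriodicPt, Function.IsFixedPt, iterate_eq_pow, h.mul_pow, h4',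
      show 4 = 1 + 3 from rfl, pow_add, one_mul, Perm.mul_apply, h3]
    simpa using hη
  rw [Function.isPeriodicPt_iff_minimalPeriod_dvd] at e12 e6 e4
  have := Function.minimalPeriod_le_card (f := ρ * η) (x := p)
  generalize Function.minimalPeriod (⇑(ρ * η)) p = m at *
  have hm : m ≤ 11 := by omega
  interval_cases m <;> omega

theorem card_lt_of_comm (h5 : 5 ≤ Fintype.card Ω) {C : Subgroup (Perm Ω)} {τ : Perm Ω}
    (hτ : τ ≠ 1) (hc : ∀ σ ∈ C, Commute σ τ) : Nat.card C < Nat.card (alternatingGroup Ω) := by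
  by_contra hn
  have : Nontrivial Ω := Fintype.one_lt_card_iff_nontrivial.1 (by omega)
  have h1 := C.card_mul_index
  have h2 := (alternatingGroup Ω).card_mul_index
  rw [alternatingGroup.index_eq_two] at h2
  have h3 : C.index ≤ 2 := by
    have : 0 < Nat.card C := Nat.card_pos
    by_contra h4
    nlinarith
  exact hτ (eq_one_of_commute_threeCycles (by omega) fun σ hσ =>
    (hc σ (alternatingGroup_le_of_index_le_two h3 hσ.mem_alternatingGroup)).symm.eq)

/-- a group covering the alternating group cannot act faithfully modulo the kernel on a second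
copy while centralising a non-trivial permutation -/
theorem cnt {G : Type*} [Group G] [Finite G] (h5 : 5 ≤ Fintype.card Ω) {J : Subgroup G}
    {π π' : G → Perm Ω} (m : ∀ g ∈ J, ∀ h ∈ J, π (g * h) = π g * π h)
    (m' : ∀ g ∈ J, ∀ h ∈ J, π' (g * h) = π' g * π' h) (ev : ∀ g ∈ J, sign (π g) = 1)
    (sj : ∀ σ : Perm Ω, sign σ = 1 → ∃ g ∈ J, π g = σ) {τ : Perm Ω} (hτ : τ ≠ 1)
    (hc : ∀ g ∈ J, Commute (π' g) τ) {σ : Perm Ω} (hσ : sign σ = 1) :
    ∃ j ∈ J, π j = σ ∧ π' j = 1 := by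
  let p : J →* alternatingGroup Ω := MonoidHom.mk'
    (fun g => ⟨π g, mem_alternatingGroup.2 (ev g g.2)⟩) fun a b => Subtype.ext (m a a.2 b b.2)
  let p' : J →* Perm Ω := MonoidHom.mk' (fun g => π' g) fun a b => m' a a.2 b b.2
  have ps : Function.Surjective p := fun s => by
    obtain ⟨g, hg, e⟩ := sj s (mem_alternatingGroup.1 s.2)
    exact ⟨⟨g, hg⟩, Subtype.ext e⟩
  have := alternatingGroup.isSimpleGroup (α := Ω) (by rwa [Nat.card_eq_fintype_card])
  rcases (Normal.map (inferInstance : p'.ker.Normal) p ps).eq_bot_or_eq_top with e | e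
  · exfalso
    have h1 := index_antitone ((Subgroup.map_eq_bot_iff _).1 e)
    rw [index_ker, index_ker, MonoidHom.range_eq_top.2 ps, card_top] at h1
    exact absurd (card_lt_of_comm h5 hτ (C := p'.range) (by
      rintro _ ⟨g, rfl⟩; exact hc g g.2)) (not_lt.2 h1)
  · obtain ⟨j, h1, h2⟩ : (⟨σ, mem_alternatingGroup.2 hσ⟩ : alternatingGroup Ω) ∈ p'.ker.map p :=
      e ▸ mem_top _
    exact ⟨j, j.2, congrArg Subtype.val h2, h1⟩

theorem not_four (h11 : Fintype.card Ω ≤ 11) {ξ : Perm Ω} (h8 : ξ.support.card = 8) {a b c d : Ω}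
    (ha : ξ a = a) (hb : ξ b = b) (hc : ξ c = c) (hd : ξ d = d) :
    a = b ∨ a = c ∨ a = d ∨ b = c ∨ b = d ∨ c = d := by
  by_contra hn
  simp only [not_or] at hn
  have := card_lt_of_four_fixed ha hb hc hd hn.1 hn.2.1 hn.2.2.1 hn.2.2.2.1 hn.2.2.2.2.1
    hn.2.2.2.2.2
  omega

/-- an even permutation of the at most three fixed points -/
theorem three (h11 : Fintype.card Ω ≤ 11) {ξ σ : Perm Ω} (h8 : ξ.support.card = 8)
    (hs : sign σ = 1) (hf : ∀ z, ξ z ≠ z → σ z = z) (h1 : σ ≠ 1) :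
    ∃ p q r, p ≠ q ∧ p ≠ r ∧ q ≠ r ∧ ξ p = p ∧ ξ q = q ∧ ξ r = r ∧ σ = c3 p q r := by
  have h2 : σ.support ⊆ ξ.supportᶜ := fun z hz => by
    rw [Finset.mem_compl, notMem_support]
    by_contra e
    exact mem_support.1 hz (hf z e)
  have h3 := Finset.card_le_card h2
  rw [Finset.card_compl] at h3
  have h4 : ¬ σ.support.card ≤ 2 := fun e => h1 (eq_one_of_card_support hs e)
  obtain ⟨p, q, r, a1, a2, a3, rfl⟩ :=
    isThreeCycle_iff_exists_c3.1 (card_support_eq_three_iff.1 (by omega : σ.support.card = 3))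
  refine ⟨p, q, r, a1, a2, a3, ?_, ?_, ?_, rfl⟩ <;> by_contra e <;> have := hf _ e
  · rw [c3_apply_fst a1 a2] at this; exact a1 this.symm
  · rw [c3_apply_snd a2 a3] at this; exact a3 this.symm
  · rw [c3_apply_thd] at this; exact a2 this

theorem three_cube (h11 : Fintype.card Ω ≤ 11) {ξ σ : Perm Ω} (h8 : ξ.support.card = 8)
    (hs : sign σ = 1) (hf : ∀ z, ξ z ≠ z → σ z = z) : σ ^ 3 = 1 := by
  by_cases h1 : σ = 1
  · simp [h1]
  obtain ⟨p, q, r, a1, a2, a3, -, -, -, rfl⟩ := three h11 h8 hs hf h1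
  rw [← (isThreeCycle_c3 a1 a2 a3).orderOf, pow_orderOf_eq_one]

theorem three_comm (h11 : Fintype.card Ω ≤ 11) {ξ σ σ' : Perm Ω} (h8 : ξ.support.card = 8)
    (hs : sign σ = 1) (hf : ∀ z, ξ z ≠ z → σ z = z) (hs' : sign σ' = 1)
    (hf' : ∀ z, ξ z ≠ z → σ' z = z) : Commute σ σ' := by
  by_cases h1 : σ = 1
  · simp [h1]
  by_cases h2 : σ' = 1
  · simp [h2]
  obtain ⟨p, q, r, a1, a2, a3, a4, a5, a6, rfl⟩ := three h11 h8 hs hf h1
  obtain ⟨p', q', r', b1, b2, b3, b4, b5, b6, rfl⟩ := three h11 h8 hs' hf' h2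
  have c1 := not_four h11 h8 a4 a5 a6 b4
  have c2 := not_four h11 h8 a4 a5 a6 b5
  have c3' := not_four h11 h8 a4 a5 a6 b6
  have r1 := c3_rotate a1 a2 a3
  have r2 := c3_rotate a3 a1.symm a2.symm
  have i1 := c3_inv a1 a2 a3
  have r3 := c3_rotate a2 a1 a3.symm
  have r4 := c3_rotate a3.symm a2.symm a1.symm
  have : c3 p' q' r' = c3 p q r ∨ c3 p' q' r' = (c3 p q r)⁻¹ := by grind
  rcases this with e | e <;> rw [e]
  exact (Commute.refl (c3 p q r)).inv_right

theorem supp_aux (h11 : Fintype.card Ω ≤ 11) {σ υ τ : Perm Ω} (s1 : σ.support.card = 8)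
    (s3 : υ.support.card = 8) (s13 : (σ * υ).support.card = 8) (s2 : τ.support.card = 8)
    (q1 : σ * σ = 1) (c12 : Commute σ τ) (c23 : Commute υ τ)
    (hf : ∀ z, σ z = z → υ z = z) {p : Ω} (hp : σ p = p) : τ p = p := by
  by_contra hn
  have e1 : υ.support = σ.support := Finset.eq_of_subset_of_card_le (fun z hz => by
    rw [mem_support] at hz ⊢; exact fun e => hz (hf z e)) (by omega)
  have e2 : (σ * υ).support = σ.support := Finset.eq_of_subset_of_card_le (fun z hz => by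
    rw [mem_support] at hz ⊢; exact fun e => hz (by rw [Perm.mul_apply, hf z e, e])) (by omega)
  obtain ⟨q, q2, q3⟩ : ∃ q ∈ σ.support, τ q = q := by
    by_contra hc
    push Not at hc
    have h2 : insert p σ.support ⊆ τ.support := fun z hz => by
      rcases Finset.mem_insert.1 hz with rfl | hz
      exacts [mem_support.2 hn, mem_support.2 (hc z hz)]
    have := Finset.card_le_card h2
    rw [Finset.card_insert_of_notMem (notMem_support.2 hp)] at this
    omega
  have a1 := mem_support.1 q2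
  have a2 := mem_support.1 (e1 ▸ q2 : q ∈ υ.support)
  have a3 := mem_support.1 (e2 ▸ q2 : q ∈ (σ * υ).support)
  have a4 := mem_support.1 (e1 ▸ apply_mem_support.2 (e1.symm ▸ q2 : q ∈ υ.support) :
    υ q ∈ σ.support)
  have f : ∀ {g : Perm Ω}, Commute g τ → ∀ z, τ z = z → τ (g z) = g z := fun c z e => by
    rw [← Perm.mul_apply, ← c.eq, Perm.mul_apply, e]
  have := not_four h11 s2 q3 (f c12 q q3) (f c23 q q3) (f c12 _ (f c23 q q3))
  have i := sq_apply q1 q
  have i2 := sq_apply q1 (υ q)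
  rw [Perm.mul_apply] at a3
  grind

/-- an elementary group of order 8 all of whose involutions move eight of at most eleven points
has a regular orbit -/
theorem same_supp (h11 : Fintype.card Ω ≤ 11) {σ τ υ : Perm Ω} (s1 : σ.support.card = 8)
    (s2 : τ.support.card = 8) (s3 : υ.support.card = 8) (s13 : (σ * υ).support.card = 8)
    (s23 : (τ * υ).support.card = 8) (s123 : (σ * (τ * υ)).support.card = 8)
    (q1 : σ * σ = 1) (q2 : τ * τ = 1) (q3 : υ * υ = 1) (c12 : Commute σ τ) (c13 : Commute σ υ)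
    (c23 : Commute υ τ) {p : Ω} (hp : σ p = p) : τ p = p := by
  by_contra hn
  have f : ∀ {g : Perm Ω}, Commute σ g → ∀ z, σ z = z → σ (g z) = g z := fun c z e => by
    rw [← Perm.mul_apply, c.eq, Perm.mul_apply, e]
  have e : ∀ z, υ (τ z) = τ (υ z) := fun z => by rw [← Perm.mul_apply, c23.eq, Perm.mul_apply]
  have i2 := sq_apply q2
  have i3 := sq_apply q3
  have a1 := f c12 p hp
  have a2 := f c13 p hp
  by_cases h1 : υ p = p
  · refine hn (supp_aux h11 s1 s3 s13 s2 q1 c12 c23 (fun z hz => ?_) hp)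
    have := not_four h11 s1 hp a1 hz (f c13 z hz)
    have := e p; have := i3 z
    grind
  by_cases h2 : υ p = τ p
  · refine hn (supp_aux h11 s1 s23 s123 s2 q1 c12 ((Commute.refl τ).mul_left c23)
      (fun z hz => ?_) hp)
    have := not_four h11 s1 hp a1 hz (f c13 z hz)
    have := not_four h11 s1 hp a1 hz (f c12 z hz)
    have := e p; have := i3 z; have := i2 z; have := i2 p; have := i3 p
    rw [Perm.mul_apply]
    grind
  · have := not_four h11 s1 hp a1 a2 (f c12 _ a2)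
    have := e p; have := i2 p; have := i3 p; have := i2 (υ p); have := i3 (τ p)
    grind

omit [DecidableEq Ω] [Fintype Ω] in
theorem conj_via {α : Type*} (g : Perm Ω) (ι : α ↪ Ω) (e : Perm α) :
    g * e.viaEmbedding ι * g⁻¹ = e.viaEmbedding (ι.trans g.toEmbedding) := by
  ext x
  obtain ⟨x, rfl⟩ := g.surjective x
  rw [Perm.mul_apply, Perm.mul_apply, show g⁻¹ (g x) = x by simp]
  by_cases hx : x ∈ Set.range ι
  · obtain ⟨i, rfl⟩ := hx
    rw [viaEmbedding_apply]
    exact (viaEmbedding_apply e (ι.trans g.toEmbedding) i).symm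
  · rw [viaEmbedding_apply_of_notMem _ _ _ hx, viaEmbedding_apply_of_notMem]
    rintro ⟨i, hi⟩
    exact hx ⟨i, g.injective hi⟩

theorem exists_via {m : ℕ} (hm : m ≤ Fintype.card Ω) {σ : Perm Ω} (h2 : σ * σ = 1)
    {e : Perm (Fin m)} (e2 : e * e = 1) (hs : σ.support.card = e.support.card) :
    ∃ ι : Fin m ↪ Ω, σ = viaEmbeddingHom ι e := by
  obtain ⟨ι⟩ : Nonempty (Fin m ↪ Ω) := Function.Embedding.nonempty_of_card_le (by simpa)
  have h1 : (e.viaEmbedding ι).cycleType = σ.cycleType := by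
    rw [(cycleType_of_sq h2).1, hs, ← (cycleType_of_sq e2).1, viaEmbedding]
    convert cycleType_extendDomain _
  obtain ⟨g, hg⟩ := isConj_iff.1 (isConj_iff_cycleType_eq.2 h1)
  exact ⟨_, by rw [← hg, conj_via, viaEmbeddingHom_apply]⟩

end Perm

end Cfsg.Agent.LyMc
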