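import Cfsg.Agent.Sol.P1

/-!
# More computations in the double cover of the alternating group
-/

set_option autoImplicit false

namespace Cfsg.Agent.LyMc

open Equiv Equiv.Perm Subgroup Cfsg.Agent.KSG

namespace SCov
variable {G Ω : Type*} [Group G] [Fintype Ω] [DecidableEq Ω] {t : G} {L : Subgroup G}
  {π : G → Perm Ω} (h : SCov t L π)
include h

theorem mulL {g k : G} (hg : g ∈ L) (hk : k ∈ L) : π (g * k) = π g * π k :=
  h.mul (h.cen hg) (h.cen hk)

theorem sq_eq {g k : G} (hg : g ∈ L) (hk : k ∈ L) (e : π g = π k) : g * g = k * k :=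
  congrArg Subtype.val (h.cov.sq_eq (h.cL ⟨g, hg⟩) (h.cL ⟨k, hk⟩) e)

theorem eight {s : G} (hs : s ∈ L) (s2 : s * s = 1) (s1 : s ≠ 1) (st : s ≠ t) :
    8 ≤ (π s).support.card ∧ (π s).support.card % 4 = 0 :=
  h.cov.eight_le (h.cL ⟨s, hs⟩) (Subtype.ext s2) (fun e => s1 (congrArg Subtype.val e))
    (fun e => st (congrArg Subtype.val e))

theorem eight_eq (h11 : Fintype.card Ω ≤ 11) {s : G} (hs : s ∈ L) (s2 : s * s = 1) (s1 : s ≠ 1)
    (st : s ≠ t) : (π s).support.card = 8 := by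
  have := h.eight hs s2 s1 st
  have : (π s).support.card ≤ 11 := (Finset.card_le_univ _).trans h11
  omega

theorem surj_dbl {a b c d : Ω} (h1 : a ≠ b) (h2 : c ≠ d) :
    ∃ k ∈ L, π k = swap a b * swap c d :=
  h.surj (by rw [map_mul, sign_swap h1, sign_swap h2]; decide)

/-- lifts of products of four disjoint transpositions are involutions -/
theorem quad {k : G} (hk : k ∈ L) (ι : Fin 8 ↪ Ω)
    (e : π k = swap (ι 0) (ι 1) * swap (ι 2) (ι 3) * (swap (ι 4) (ι 5) * swap (ι 6) (ι 7))) :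
    k * k = 1 := by
  have n : ∀ {i j : Fin 8}, i ≠ j → ι i ≠ ι j := fun e => ι.injective.ne e
  obtain ⟨u, hu, eu⟩ := h.surj_dbl (n (i := 0) (j := 1) (by decide)) (n (i := 2) (j := 3) (by decide))
  obtain ⟨v, hv, ev⟩ := h.surj_dbl (n (i := 4) (j := 5) (by decide)) (n (i := 6) (j := 7) (by decide))
  have u2 := h.dbl hu (n (by decide)) (n (by decide)) (n (by decide)) (n (by decide))
    (n (by decide)) (n (by decide)) eu
  have v2 := h.dbl hv (n (by decide)) (n (by decide)) (n (by decide)) (n (by decide))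
    (n (by decide)) (n (by decide)) ev
  have f : ∀ i : Fin 8, 4 ≤ i → π u (ι i) = ι i := fun i hi => by
    rw [eu, Perm.mul_apply, swap_apply_of_ne_of_ne (n (by omega)) (n (by omega)),
      swap_apply_of_ne_of_ne (n (by omega)) (n (by omega))]
  have c := h.comm_dbl (h.cen hu) hv (n (by decide)) (n (by decide)) (n (by decide))
    (n (by decide)) (n (by decide)) ev (f 4 (by decide)) (f 5 (by decide)) (f 6 (by decide))
    (f 7 (by decide))
  rw [h.sq_eq hk (L.mul_mem hu hv) (by rw [h.mulL hu hv, eu, ev, e]), ← pow_two, c.mul_pow, pow_two,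
    pow_two, u2, v2, h.sq]

theorem quadE {m : ℕ} (ι : Fin m ↪ Ω) {k : G} (hk : k ∈ L) {σ : Perm (Fin m)}
    (e : π k = viaEmbeddingHom ι σ) (i : Fin 8 → Fin m) (hi : Function.Injective i)
    (e2 : σ = swap (i 0) (i 1) * swap (i 2) (i 3) * (swap (i 4) (i 5) * swap (i 6) (i 7))) :
    k * k = 1 :=
  h.quad hk ((⟨i, hi⟩ : Fin 8 ↪ Fin m).trans ι) (by
    rw [e, e2]; simp only [map_mul, viaEmbeddingHom_apply, via_swap]; rfl)

theorem surjE {m : ℕ} (ι : Fin m ↪ Ω) {σ : Perm (Fin m)} (hσ : sign σ = 1) :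
    ∃ k ∈ L, π k = viaEmbeddingHom ι σ := by
  classical
  exact h.surj (by rw [viaEmbeddingHom_apply, viaEmbedding]; convert (sign_extendDomain σ _).trans hσ)

/-- a transposition inverts the lifts of the double transpositions containing it -/
theorem transp {g k : G} (hg : Commute g t) (hk : k ∈ L) {r s p q : Ω} (h1 : r ≠ s) (h2 : p ≠ q)
    (h3 : r ≠ p) (h4 : r ≠ q) (h5 : s ≠ p) (h6 : s ≠ q) (eg : π g = swap r s)
    (ek : π k = swap r s * swap p q) : g * k * g⁻¹ = k * t := by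
  obtain ⟨u, hu, eu⟩ := h.surj_dbl h3 h6
  have hv := h.norm hg hu
  have ev : π (g * u * g⁻¹) = swap s p * swap r q := by
    rw [h.map_conj hg (h.cen hu), eu, ← conj_mul, conj_swap, conj_swap, eg]
    simp [swap_apply_of_ne_of_ne h3.symm h5.symm, swap_apply_of_ne_of_ne h4.symm h6.symm]
  have g2 : g * (g * u * g⁻¹) * g⁻¹ = u := by
    have := h.commK ((h.kerK (hg.mul_left hg)).1 (by rw [h.mul hg hg, eg, swap_mul_self])) hu
    calc _ = g * g * u * (g * g)⁻¹ := by group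
      _ = u := by rw [this.eq]; group
  have e0 : ∀ w, g * (u * w) * g⁻¹ = g * u * g⁻¹ * (g * w * g⁻¹) := fun w => by group
  generalize g * u * g⁻¹ = v at *
  have e1 : π (u * v) = swap r s * swap p q := by
    rw [h.mulL hu hv, eu, ev]
    ext z; simp only [Perm.mul_apply, swap_apply_def]; grind
  have u2 := h.dbl hu h3 h6 h1 h4 h5.symm h2 eu
  have v2 := h.dbl hv h5 h4 h1.symm h6 h3.symm h2 ev
  have w2 := h.dbl (L.mul_mem hu hv) h1 h2 h3 h4 h5 h6 e1
  have e2 : v * u = u * v * t := by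
    have ut := (h.cen hu).eq
    have vt := (h.cen hv).eq
    calc v * u = u⁻¹ * (u * v * (u * v)) * v⁻¹ := by group
      _ = u * (u * u)⁻¹ * t * (v * v)⁻¹ * v := by rw [w2]; group
      _ = u * v * t := by
        rw [u2, v2, h.inv_t, mul_assoc u t t, h.sq, mul_one, mul_assoc, ← vt, mul_assoc]
  have e3 : g * (u * v) * g⁻¹ = u * v * t := by rw [e0, g2, e2]
  rcases h.eq_or hk (L.mul_mem hu hv) (ek.trans e1.symm) with rfl | rfl
  · exact e3
  · rw [← conj_mul, e3, hg.eq, mul_inv_cancel_right]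

/-- an `SL₂(3)` in the centraliser of an involution -/
theorem sl (h8 : 8 ≤ Fintype.card Ω) {x : G} (hx : Commute x t) (x2 : π x * π x = 1) :
    ∃ y ∈ L, ∃ w ∈ L, Commute x y ∧ Commute x w ∧
      y * w * y⁻¹ * w⁻¹ * (y * w * y⁻¹ * w⁻¹) = t := by
  by_cases hc : 4 < (π x).support.card
  · obtain ⟨a, b, c, B⟩ := exists_blk3'' x2 hc
    obtain ⟨y, hy, w, hw, -, ey, e, cy, cw⟩ := h.key hx B
    have yt := h.cen hy
    have wt := h.cen hw
    refine ⟨y, hy, w, hw, cy, cw, h.sq_tt (L.mul_mem (h.norm yt hw) (L.inv_mem hw)) B.swap ?_⟩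
    rw [h.mul ((yt.mul_left wt).mul_left yt.inv_left) wt.inv_left,
      h.map_conj yt wt, h.map_inv wt, e, ey, conj_tt B.rot_comm.symm, B.rot_apply.1,
      B.rot_apply.2.1, B.tt_mul]
  · obtain ⟨a, b, c, d, fa, fb, fc, fd, h1, h2, h3, h4, h5, h6⟩ :=
      exists_four_fixed (σ := π x) (by omega)
    obtain ⟨y, y1, y2, y3⟩ := h.exists_c3 h1 h2 h4
    obtain ⟨w, hw, ew⟩ := h.surj_dbl h1 h6
    have yt := h.cen y1
    have wt := h.cen hw
    refine ⟨y, y1, w, hw, h.comm_of_odd hx y1 (by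
      rw [y2]; exact mul_inv_eq_iff_eq_mul.1 (by rw [conj_c3, fa, fb, fc])) (by decide) y3,
      h.comm_dbl hx hw h1 h6 h2 h4 h5 ew fa fb fc fd,
      h.dbl (L.mul_mem (h.norm yt hw) (L.inv_mem hw)) h2 h5 h1 h3 h4.symm h6 ?_⟩
    rw [h.mul ((yt.mul_left wt).mul_left yt.inv_left) wt.inv_left,
      h.map_conj yt wt, h.map_inv wt, ew, ← conj_mul, conj_swap, conj_swap, y2,
      c3_apply_fst h1 h2, c3_apply_snd h2 h4, c3_apply_thd,
      c3_apply_of_ne h3.symm h5.symm h6.symm, mul_inv_eq_iff_eq_mul]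
    ext z; simp only [Perm.mul_apply, swap_apply_def]; grind

theorem ne_of_map {k : G} (e : π k ≠ 1) : k ≠ 1 ∧ k ≠ t :=
  ⟨fun e' => e (e' ▸ h.map_one), fun e' => e (e' ▸ h.map_t)⟩

/-- two involutions generating a dihedral group of order 8 with centre `t` have a common
neighbour -/
theorem common {a b : G} (ha : a ∈ L) (hb : b ∈ L) (a2 : a * a = 1)
    (a1 : a ≠ 1) (at' : a ≠ t) (b2 : b * b = 1) (e : a * b * (a * b) = t)
    (h11 : Fintype.card Ω ≤ 11) :
    ∃ e ∈ L, e * e = 1 ∧ π e ≠ 1 ∧ Commute a e ∧ Commute b e := by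
  have hd := L.mul_mem ha hb
  have s8 := h.eight_eq h11 ha a2 a1 at'
  have sa : π a * π a = 1 := by rw [← h.mulL ha ha, a2, h.map_one]
  have sd : π (a * b) * π (a * b) = 1 := by rw [← h.mulL hd hd, e, h.map_t]
  have ai : a⁻¹ = a := inv_eq_of_mul_eq_one_right a2
  have bi : b⁻¹ = b := inv_eq_of_mul_eq_one_right b2
  have ad : a * (a * b) * a⁻¹ = a * b * t := by
    have : a * b * t * (a * b) = 1 := by
      rw [mul_assoc, ← (h.cen hd).eq, ← mul_assoc, e, h.sq]
    rw [eq_inv_of_mul_eq_one_left this, mul_inv_rev, ai, bi, ← mul_assoc, a2, one_mul]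
  have cd : Commute (π a) (π (a * b)) := by
    have := h.map_conj (h.cen ha) (h.cen hd)
    rw [ad, h.mul (h.cen hd) (Commute.refl t), h.map_t, mul_one] at this
    exact mul_inv_eq_iff_eq_mul.1 this.symm
  have d4 : (π (a * b)).support.card ≤ 4 := by
    have h1 := (cycleType_of_sq sd).2.2 (h.even hd)
    have h2 : (π (a * b)).support.card ≤ 11 := (Finset.card_le_univ _).trans h11
    by_contra h3
    obtain ⟨ι, e1⟩ := exists_via (m := 8) (by have := Finset.card_le_univ (π a).support; omega) sd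
      (e := swap 0 1 * swap 2 3 * (swap 4 5 * swap 6 7)) (by decide)
      (Eq.trans (by omega : _ = 8) (by decide))
    exact h.ne (e.symm.trans (h.quadE ι hd e1 id Function.injective_id rfl))
  obtain ⟨p, hp, np⟩ := exists_supp_notMem (σ := π a) (π (a * b)).support (by omega)
  have c3' : ∀ z : Ω, ({z, π a z} : Finset Ω).card ≤ 2 := fun _ => Finset.card_le_two
  obtain ⟨q, hq, nq⟩ := exists_supp_notMem (σ := π a) ((π (a * b)).support ∪ {p, π a p})
    (((Finset.card_union_le _ _).trans (add_le_add d4 (c3' p))).trans_lt (by omega))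
  simp only [Finset.mem_union, Finset.mem_insert, Finset.mem_singleton, not_or,
    notMem_support] at np nq
  obtain ⟨c, B⟩ := exists_blk3 sa (by omega) hp hq (Ne.symm nq.2.1) (Ne.symm nq.2.2)
  obtain ⟨u, hu, eu, eu2⟩ := h.exists_swap ha B
  have f : ∀ z, π (a * b) z = z → π (a * b) (π a z) = π a z := fun z hz => by
    rw [← Perm.mul_apply, ← cd.eq, Perm.mul_apply, hz]
  have i1 := sq_apply sa p
  have i2 := sq_apply sa q
  obtain ⟨-, _, _, _, _, _, _, _, _, _⟩ := B
  have u2 := h.dbl hu (by grind) (by grind) (by grind) (by grind) (by grind) (by grind) eu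
  have cu := h.comm_dbl (h.cen hd) hu (by grind) (by grind) (by grind) (by grind) (by grind) eu
    np nq.1 (f p np) (f q nq.1)
  have au : a * u * a⁻¹ = u * t := by
    have ut := (h.cen hu).eq
    have at2 := (h.cen ha).eq
    calc _ = a * (u * a * u⁻¹) * u := by rw [ai]; group
      _ = _ := by rw [eu2, ← mul_assoc, a2, one_mul, ut]
  have c1 : Commute a (a * b * u) := mul_inv_eq_iff_eq_mul.1 (by
    rw [← conj_mul, ad, au, mul_assoc, ← mul_assoc t, ← (h.cen hu).eq, mul_assoc u, h.sq, mul_one])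
  refine ⟨a * b * u, L.mul_mem hd hu, by rw [← pow_two, cu.mul_pow, pow_two, pow_two, e, u2, h.sq],
    fun e1 => ?_, c1, ?_⟩
  · have := congrArg (fun σ : Perm Ω => σ q) e1
    simp only [h.mulL hd hu, eu, Perm.mul_apply, Perm.one_apply] at this
    rw [swap_apply_of_ne_of_ne (x := q) (by grind) (by grind), swap_apply_right, np] at this
    exact nq.2.1 this.symm
  · have := c1.inv_left.mul_left ((Commute.refl (a * b)).mul_right cu)
    rwa [inv_mul_cancel_left] at this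

theorem comm_of_sq {a b : G} (a2 : a * a = 1) (b2 : b * b = 1) (e : a * b * (a * b) = 1) :
    Commute a b := by
  have _ := h
  rw [← eq_inv_iff_mul_eq_one, mul_inv_rev, inv_eq_of_mul_eq_one_right a2,
    inv_eq_of_mul_eq_one_right b2] at e
  exact e

/-- the elementary abelian group of order 16 over a regular group of order 8 -/
theorem e16 (h11 : Fintype.card Ω ≤ 11) {a : G} (ha : a ∈ L) (a2 : a * a = 1) (a1 : a ≠ 1)
    (at' : a ≠ t) : ∃ b ∈ L, ∃ c ∈ L, b * b = 1 ∧ c * c = 1 ∧ Commute a b ∧ Commute a c ∧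
      Commute b c ∧ π b ≠ 1 ∧ π b ≠ π a ∧ π c ≠ 1 ∧ π c ≠ π a ∧ π c ≠ π b ∧ π c ≠ π a * π b := by
  have s8 := h.eight_eq h11 ha a2 a1 at'
  obtain ⟨ι, ea⟩ := exists_via (m := 8) (by have := Finset.card_le_univ (π a).support; omega)
    (by rw [← h.mulL ha ha, a2, h.map_one] : π a * π a = 1)
    (e := swap 0 1 * swap 2 3 * (swap 4 5 * swap 6 7)) (by decide) (s8.trans (by decide))
  obtain ⟨b, hb, eb⟩ := h.surjE ι (σ := swap 0 2 * swap 1 3 * (swap 4 6 * swap 5 7)) (by decide)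
  obtain ⟨c, hc, ec⟩ := h.surjE ι (σ := swap 0 4 * swap 1 5 * (swap 2 6 * swap 3 7)) (by decide)
  have b2 := h.quadE ι hb eb ![0, 2, 1, 3, 4, 6, 5, 7] (by decide) rfl
  have c2 := h.quadE ι hc ec ![0, 4, 1, 5, 2, 6, 3, 7] (by decide) rfl
  have i := viaEmbeddingHom_injective ι
  refine ⟨b, hb, c, hc, b2, c2, h.comm_of_sq a2 b2 (h.quadE ι (L.mul_mem ha hb)
      (by rw [h.mulL ha hb, ea, eb, ← map_mul]) ![0, 3, 1, 2, 4, 7, 5, 6] (by decide) (by decide)),
    h.comm_of_sq a2 c2 (h.quadE ι (L.mul_mem ha hc)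
      (by rw [h.mulL ha hc, ea, ec, ← map_mul]) ![0, 5, 1, 4, 2, 7, 3, 6] (by decide) (by decide)),
    h.comm_of_sq b2 c2 (h.quadE ι (L.mul_mem hb hc)
      (by rw [h.mulL hb hc, eb, ec, ← map_mul]) ![0, 6, 2, 4, 1, 7, 3, 5] (by decide) (by decide)),
    ?_, ?_, ?_, ?_, ?_, ?_⟩ <;> simp only [ea, eb, ec, ← map_mul]
  · rw [← (viaEmbeddingHom ι).map_one]; exact i.ne (by decide)
  · exact i.ne (by decide)
  · rw [← (viaEmbeddingHom ι).map_one]; exact i.ne (by decide)
  · exact i.ne (by decide)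
  · exact i.ne (by decide)
  · exact i.ne (by decide)

/-- a commuting involution moving two given fixed points -/
theorem mixed (h11 : Fintype.card Ω ≤ 11) {a : G} (ha : a ∈ L) (a2 : a * a = 1) (a1 : a ≠ 1)
    (at' : a ≠ t) {p q : Ω} (hp : π a p = p) (hq : π a q = q) (pq : p ≠ q) :
    ∃ b ∈ L, b * b = 1 ∧ Commute a b ∧ π b p = q := by
  have s8 := h.eight_eq h11 ha a2 a1 at'
  have sa : π a * π a = 1 := by rw [← h.mulL ha ha, a2, h.map_one]
  obtain ⟨ι, ea⟩ := exists_via (m := 8) (by have := Finset.card_le_univ (π a).support; omega) sa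
    (e := swap 0 1 * swap 2 3 * (swap 4 5 * swap 6 7)) (by decide) (s8.trans (by decide))
  have n : ∀ i, π a (ι i) ≠ ι i := fun i => by
    rw [ea, viaEmbeddingHom_apply, viaEmbedding_apply]
    exact ι.injective.ne (by revert i; decide)
  have np : ∀ i, ι i ≠ p := fun i e => n i (by rw [e, hp])
  have nq : ∀ i, ι i ≠ q := fun i e => n i (by rw [e, hq])
  have np' := fun i => (np i).symm
  have nq' := fun i => (nq i).symm
  have qp := pq.symm
  let ι' : Fin 10 ↪ Ω := ⟨![ι 0, ι 1, ι 2, ι 3, ι 4, ι 5, ι 6, ι 7, p, q], fun i j e => by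
    fin_cases i <;> fin_cases j <;> first | rfl | simp [np, nq, np', nq', pq, qp] at e⟩
  have ea' : π a = viaEmbeddingHom ι' (swap 0 1 * swap 2 3 * (swap 4 5 * swap 6 7)) := by
    rw [ea]; simp only [map_mul, viaEmbeddingHom_apply, via_swap]; rfl
  obtain ⟨b, hb, eb⟩ := h.surjE ι' (σ := swap 0 2 * swap 1 3 * (swap 4 5 * swap 8 9)) (by decide)
  have b2 := h.quadE ι' hb eb ![0, 2, 1, 3, 4, 5, 8, 9] (by decide) rfl
  refine ⟨b, hb, b2, h.comm_of_sq a2 b2 (h.quadE ι' (L.mul_mem ha hb)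
    (by rw [h.mulL ha hb, ea', eb, ← map_mul]) ![0, 3, 1, 2, 6, 7, 8, 9] (by decide) (by decide)), ?_⟩
  rw [eb, viaEmbeddingHom_apply]
  exact (viaEmbedding_apply _ ι' 8).trans (congrArg ι' (by decide : _ = (9 : Fin 10)))

theorem exists_inv (h8 : 8 ≤ Fintype.card Ω) : ∃ s ∈ L, s * s = 1 ∧ π s ≠ 1 := by
  obtain ⟨ι⟩ : Nonempty (Fin 8 ↪ Ω) := Function.Embedding.nonempty_of_card_le (by simpa)
  obtain ⟨s, hs, e⟩ := h.surjE ι (σ := swap 0 1 * swap 2 3 * (swap 4 5 * swap 6 7)) (by decide)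
  refine ⟨s, hs, h.quadE ι hs e id Function.injective_id rfl, ?_⟩
  rw [e, ← (viaEmbeddingHom ι).map_one]
  exact (viaEmbeddingHom_injective ι).ne (by decide)

end SCov

end Cfsg.Agent.LyMc
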