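import Cfsg.Agent.Sol.Pair

/-!
# Pumpups of intrinsic components `2.A_n`
-/

set_option autoImplicit false
set_option linter.unusedSectionVars false

namespace Cfsg.Agent.Sol

open Subgroup Cfsg Cfsg.Agent.PLocal Cfsg.Agent.PLocal.Amb Cfsg.Agent.Suz Cfsg.Agent.Bender
open Equiv Equiv.Perm Cfsg.Agent.LyMc Cfsg.Agent.KSG
open scoped commutatorElement

universe u

/-- the conclusion in the simple case -/
structure Res {X : Type*} [Group X] (t : X) (K : Subgroup X) : Prop where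
  simple : IsSimpleGroup X
  cent : C t = K
  core : Ox K = ⊥
  odd : Odd (C t).index
  ex : ∃ g, Commute (g * t * g⁻¹) t ∧ g * t * g⁻¹ ≠ t
  maxp : ∀ M : Subgroup X, C t ≤ M → (∃ g ∈ M, Commute (g * t * g⁻¹) t ∧ g * t * g⁻¹ ≠ t) → M = ⊤

/-- the theorem for a quasisimple group -/
def MainQ (Ω : Type*) [Fintype Ω] [DecidableEq Ω] (X : Type*) [Group X] : Prop :=
  IsQuasisimple X → pPrimeCore 2 X = ⊥ → ∀ (t : X) (K : Subgroup X), Intr Ω t K → K = ⊤ ∨ Res t K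

/-- the induction hypothesis -/
def IH (Ω : Type*) [Fintype Ω] [DecidableEq Ω] (G : Type u) [Group G] : Prop :=
  ∀ (X : Type u) [Group X] [Finite X], Nat.card X < Nat.card G → MainQ Ω X

variable {G : Type u} [Group G]

theorem cc (a b c : G) : a * b * c * (a * b)⁻¹ = a * (b * c * b⁻¹) * a⁻¹ := by group

/-- `t` centralises the 2-layer of `C(y)` modulo the core -/
def Triv (t y : G) : Prop := ∀ w ∈ Lx (C y), ⁅w, t⁆ ∈ Oc y

/-- the pumpup of `K` in `C(y)` -/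
structure Up (t : G) (K : Subgroup G) (y : G) (I : Subgroup G) : Prop where
  comp : PC I (C y)
  le : Lx (K ⊓ C y) ≤ I
  two : ∀ x ∈ I, Commute x t → Two x → x ∈ K

/-- a non-trivial pumpup -/
structure NT (t : G) (K : Subgroup G) (y : G) (I : Subgroup G) : Prop extends Up t K y I where
  ex : ∃ g ∈ I, Commute (g * t * g⁻¹) t ∧ g * t * g⁻¹ ≠ t
  core : Oc t ⊓ Lx (K ⊓ C y) ≤ Oc y
  maxp : ∀ M : Subgroup G, Oc y ≤ M → Lx (K ⊓ C y) ≤ M →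
    (∃ g ∈ M ⊓ I, Commute (g * t * g⁻¹) t ∧ g * t * g⁻¹ ≠ t) → I ≤ M

variable [Finite G] {B Ω : Type*} [Group B] [Fintype Ω] [DecidableEq Ω]
  {z : B} {L : Subgroup B} {ρ : B →* Perm Ω} {t x y : G} {K K' I : Subgroup G} {F F' : G → B}

namespace Bar
variable (h : Bar z L ρ t K F)
include h

theorem layer1 (hy : Two y) (yQ : y ∈ QQ t K) : PC (Lx (K ⊓ C y)) (C t ⊓ C y) ∧
    K ≤ Lx (K ⊓ C y) ⊔ Oc t ∧ ∀ k ∈ K, Commute k y → Two k → k ∈ Lx (K ⊓ C y) := by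
  obtain ⟨h1, h2, h3⟩ := h.layer hy.pg (zpowers_le.2 yQ)
  rw [Amb.centralizer_zpowers] at h1 h2 h3
  exact ⟨h1, h2, fun k hk c => h3 k ⟨hk, mC.2 c⟩⟩

theorem Qc (yQ : y ∈ QQ t K) : Commute y t := mC.1 (h.QN yQ).1

theorem JL (hy : Two y) (yQ : y ∈ QQ t K) : Lx (K ⊓ C y) ≤ Lx (C y) :=
  PC.bal (inf_comm (C t) (C y) ▸ (h.layer1 hy yQ).1) h.inv (mC.2 (h.Qc yQ).symm)

theorem tJ (hy : Two y) (yQ : y ∈ QQ t K) : t ∈ Lx (K ⊓ C y) :=
  (h.layer1 hy yQ).2.2 t h.tK (h.Qc yQ).symm h.two_t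

theorem exists_le (hy : Two y) (yQ : y ∈ QQ t K) : ∃ I, PC I (C y) ∧ Lx (K ⊓ C y) ≤ I := by
  obtain ⟨h3, -, -⟩ := h.layer1 hy yQ
  have hLY : Lx (K ⊓ C y) ≤ C y := h3.1.trans inf_le_right
  have h4 : cb 2 (C y) (Lx (K ⊓ C y)) ≤ Cfsg.layer _ :=
    (cb_mono (h.JL hy yQ)).trans cb_pLayerOf.le
  have h5 := IsPComponentOf.cb h3 hLY
  let t' : C y := ⟨t, mC.2 (h.Qc yQ).symm⟩
  rw [cb_inf_right, cb_centralizer_singleton (a := t') (k := 1)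
    (by rw [pow_one, pow_two]; exact h.inv.2)] at h5
  obtain ⟨J', hJ', hc⟩ := pumpup_pcomp (Grp.pPrimeCore_quotient_pPrimeCore 2 (C y))
    (orderOf_cbHom (a := t') (invol_iff_orderOf.1 h.inv)) h5.1 h5.2 h4
  obtain ⟨J, hJ, rfl, -⟩ := exists_pcomp_cb_eq hJ'
  refine ⟨J, hJ, (isPQS_pGen (PC.pqs h3)).le_of_le_sup_ppcOf hLY (PC.sn hJ)
    (le_sup_of_cb_le hLY ?_)⟩
  rcases hc with e | ⟨e, -⟩ | ⟨e, -⟩
  exacts [e.le, e.le, absurd (layer_le_normalizer_comp hJ' (h4 (mem_cb (h.tJ hy yQ)))) e]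

/-- the pumpup dichotomy -/
theorem pu (ih : IH Ω G) (hy : Two y) (yQ : y ∈ QQ t K) (hne : C y ≠ ⊤) :
    ∃ I, Up t K y I ∧ (Triv t y ∨ NT t K y I) := by
  obtain ⟨I, hI, hJ⟩ := h.exists_le hy yQ
  obtain ⟨h3, h4, -⟩ := h.layer1 hy yQ
  have tJ := h.tJ hy yQ
  have hO : Ox I ≤ Oc y := hI.O_eq.le.trans inf_le_left
  set J := Lx (K ⊓ C y)
  have JK : J ≤ K := (pLayerOf_le _).trans inf_le_left
  let t' : I := ⟨t, hJ tJ⟩
  have e1 : cb 2 I (C t) = C (cbHom 2 I t') :=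
    cb_centralizer_singleton (a := t') (k := 1) (by rw [pow_one, pow_two]; exact h.inv.2)
  have h5 : PC J (C t ⊓ I) := isPComponentOf_iff.2 ⟨h3.sn.mono (le_inf (h3.1.trans inf_le_left) hJ)
    (inf_le_inf_left _ hI.1), h3.pqs⟩
  have h6 := IsPComponentOf.cb h5 hJ
  rw [cb_inf_right, e1] at h6
  have up : cb 2 I (C t) ≤ cb 2 I J → Up t K y I := fun e => ⟨hI, hJ, fun x hx c x2 =>
    JK (mem_of_two h3.sn (odd_Ox (C y)) (fun g hg => nO hg.2) x2 ⟨mC.2 c, hI.1 hx⟩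
      (sup_le_sup_left hO _ (le_sup_of_cb_le (A := C t ⊓ I) inf_le_right
        ((cb_inf_right _).le.trans e) ⟨mC.2 c, hx⟩)))⟩
  have cj : ∀ g : I, cbHom 2 I ⟨g * t * (g : G)⁻¹, (g * t' * g⁻¹).2⟩ =
      cbHom 2 I g * cbHom 2 I t' * (cbHom 2 I g)⁻¹ := fun g => by
    rw [← map_inv, ← map_mul, ← map_mul]; rfl
  rcases ih (I ⧸ pPrimeCore 2 I) ((Nat.le_of_dvd Nat.card_pos (card_quotient_dvd_card _)).trans_lt ((card_le_of_le hI.1).trans_lt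
    (by rw [← card_top (G := G)]; exact Grp.card_lt_of_lt hne.lt_top))) hI.pqs.2
    (Grp.pPrimeCore_quotient_pPrimeCore 2 I) (cbHom 2 I t') (cb 2 I J)
    ⟨invol_iff_orderOf.2 (orderOf_cbHom (a := t') (invol_iff_orderOf.1 h.inv)), h6, mem_cb tJ,
      (dc_iff (((cbHom 2 I).comp (inclusion hJ)).codRestrict _ fun j => mem_cb j.2) (by
        rintro ⟨_, a, ha, rfl⟩; exact ⟨⟨a, ha⟩, rfl⟩) fun a e => by
        rw [← Subgroup.orderOf_coe]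
        exact odd_O (X := I) ⟨_, (QuotientGroup.eq_one_iff _).1 (congrArg Subtype.val e), rfl⟩).1
      (h.dcJ JK h4)⟩ with e | R
  · refine ⟨I, up (e ▸ le_top), Or.inl fun w hw => comm_L' hI (hJ tJ) (fun k hk => ?_) hw⟩
    refine (sup_le (c := modO (Oc y) {t}) (fun j hj => ⟨nO (hI.1 (hJ hj)), fun _ e => e ▸ ?_⟩)
      (fun o ho => ⟨le_normalizer (hO ho), fun _ e => e ▸ comm_symm (comm_O (hI.1 (hJ tJ)) (hO ho))⟩)
      (le_sup_of_cb_le le_rfl (e ▸ le_top) hk)).2 t rfl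
    rw [commutatorElement_eq_one_iff_commute.2 (h.Kc (JK hj))]
    exact one_mem _
  have U := up (e1.trans R.cent).le
  refine ⟨I, U, Or.inr ⟨U, ?_, ?_, fun M h1 h2 ⟨g, hg, c, ne⟩ => ?_⟩⟩
  · obtain ⟨g, c, ne⟩ := R.ex
    obtain ⟨g, rfl⟩ := cbHom_surjective 2 I g
    rw [← cj] at c ne
    obtain ⟨o, ho, e⟩ := adj1 (X := I) (h.two_t.conj g) h.two_t (g * t' * g⁻¹).2 t'.2
      ⟨⁅g * t' * g⁻¹, t'⁆, (QuotientGroup.eq_one_iff _).1 (by
        rw [← QuotientGroup.mk'_apply, map_commutatorElement]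
        exact commutatorElement_eq_one_iff_commute.2 c), rfl⟩
    refine ⟨o * g, mul_mem (ppcOf_le 2 _ ho) g.2, by rwa [cc], fun e' => ne ?_⟩
    obtain ⟨o, ho, rfl⟩ := ho
    have : cbHom 2 I o = 1 := (QuotientGroup.eq_one_iff _).2 ho
    have e2 := cj (o * g)
    rw [map_mul, this, one_mul, ← cj] at e2
    rw [← e2]
    exact congrArg _ (Subtype.ext e')
  · refine (le_Ox inf_le_right (le_normalizer_inf (fun g hg => nO (h3.1 hg).1) le_normalizer)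
      (odd_le (odd_Ox _) inf_le_left)).trans (le_trans ?_ hO)
    exact le_ppcOf_of_cb_eq_bot ((ppcOf_le 2 _).trans hJ)
      (le_bot_iff.1 ((cb_ppcOf_le J).trans R.core.le))
  · have := R.maxp (cb 2 I M) (R.cent ▸ cb_mono h2) ⟨cbHom 2 I ⟨g, hg.2⟩, mem_cb hg.1, by
      rw [← cj]; exact Commute.map (Subtype.ext c.eq) _, fun e => ne (eq_of_cbHom_eq
        (pg_two (h.two_t.conj g) h.two_t c) (a := ⟨_, (⟨g, hg.2⟩ * t' * ⟨g, hg.2⟩⁻¹).2⟩) (b := t')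
        zl zr ((cj ⟨g, hg.2⟩).trans e))⟩
    exact (le_sup_of_cb_le le_rfl (this ▸ le_top)).trans (sup_le le_rfl (hO.trans h1))

end Bar

end Cfsg.Agent.Sol
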