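import Cfsg.Agent.Sol.Bar

/-!
# Two commuting involutions with intrinsic components `2.A_n`
-/

set_option autoImplicit false
set_option linter.unusedSectionVars false

namespace Cfsg.Agent.Sol

open Subgroup Cfsg Cfsg.Agent.PLocal Cfsg.Agent.PLocal.Amb Cfsg.Agent.Suz Cfsg.Agent.Bender
open Equiv Equiv.Perm Cfsg.Agent.LyMc Cfsg.Agent.KSG
open scoped commutatorElement

section Perm
variable {Ω : Type*} [DecidableEq Ω]

theorem tt_sq' {σ : Perm Ω} (h : σ * σ = 1) (a b : Ω) : tt σ a b * tt σ a b = 1 := by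
  rw [← pow_two, tt, (blk_comm (sq_apply h) a b).mul_pow, pow_two, pow_two, swap_mul_self,
    swap_mul_self, mul_one]

theorem tt_inv {σ : Perm Ω} (h : σ * σ = 1) (a b : Ω) : (tt σ a b)⁻¹ = tt σ a b :=
  inv_eq_of_mul_eq_one_right (tt_sq' h a b)

theorem tt_comm_tt {σ : Perm Ω} (h : σ * σ = 1) (a b c d : Ω) : Commute (tt σ a b) (tt σ c d) :=
  have hi := sq_apply h
  ((blk_comm hi _ _).mul_right (blk_comm hi _ _)).mul_left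
    ((blk_comm hi _ _).mul_right (blk_comm hi _ _))

omit [DecidableEq Ω] in
theorem exists_moved {σ : Perm Ω} (h : σ ≠ 1) : ∃ p, σ p ≠ p := by
  by_contra hc; push Not at hc; exact h (Equiv.ext hc)

theorem nine [Fintype Ω] {τ μ : Perm Ω} (hτ : τ * τ = 1) (hμ : μ * μ = τ)
    (h9 : 8 < τ.support.card) : ∃ (γ : Perm Ω) (p : Ω), γ ^ 3 = 1 ∧ Commute τ γ ∧ τ (μ p) ≠ μ p ∧
      μ ((γ * μ * γ⁻¹) p) ≠ (γ * μ * γ⁻¹) (μ p) ∧ μ ((γ * μ * γ⁻¹) p) ≠ (γ * μ * γ⁻¹) (τ (μ p)) := by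
  have hi := sq_apply hτ
  have hu' : ∀ ω, μ (μ ω) = τ ω := fun ω => by rw [← Perm.mul_apply, hμ]
  have cu : ∀ ω, μ (τ ω) = τ (μ ω) := fun ω => by rw [← hu', ← hu']
  obtain ⟨a1, g1⟩ : τ.support.Nonempty := Finset.card_pos.1 (by omega)
  have c4 : ∀ a : Ω, ({a, μ a, τ a, τ (μ a)} : Finset Ω).card ≤ 4 := fun _ => Finset.card_le_four
  obtain ⟨a3, g3, n3⟩ := exists_notMem (s := τ.support) ((c4 a1).trans_lt (by omega))
  obtain ⟨a5, g5, n5⟩ := exists_notMem (s := τ.support)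
    (((Finset.card_union_le _ _).trans (add_le_add (c4 a1) (c4 a3))).trans_lt (by omega))
  simp only [mem_support, Finset.mem_union, Finset.mem_insert, Finset.mem_singleton,
    not_or] at g1 g3 g5 n3 n5
  have j1 := hi a1
  have j3 := hi a3
  have j5 := hi a5
  have hγ : Perm.Disjoint (c3 a1 a3 a5) (c3 (τ a1) (τ a3) (τ a5)) := fun ω => by
    simp only [c3, Perm.mul_apply, swap_apply_def]; grind
  have h3 : (c3 a1 a3 a5 * c3 (τ a1) (τ a3) (τ a5)) ^ 3 = 1 := by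
    have e1 := (isThreeCycle_c3 (Ne.symm n3.1) (Ne.symm n5.1.1) (Ne.symm n5.2.1)).orderOf
    have e2 := (isThreeCycle_c3 (a := τ a1) (b := τ a3) (c := τ a5) (by grind)
      (by grind) (by grind)).orderOf
    rw [hγ.commute.mul_pow, orderOf_dvd_iff_pow_eq_one.1 e1.dvd,
      orderOf_dvd_iff_pow_eq_one.1 e2.dvd, one_mul]
  have hc : Commute τ (c3 a1 a3 a5 * c3 (τ a1) (τ a3) (τ a5)) := mul_inv_eq_iff_eq_mul.1 (by
    rw [← conj_mul, conj_c3, conj_c3, j1, j3, j5, hγ.commute.eq])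
  refine ⟨_, a1, h3, hc, ?_⟩
  have k1 := hu' a1
  have k3 := hu' a3
  have k5 := hu' a5
  have l1 := cu a1
  have l3 := cu a3
  have l5 := cu a5
  have m1 := hi (μ a1)
  have m5 := hi (μ a5)
  have o1 := hu' (μ a1)
  have o3 := hu' (μ a3)
  have o5 := hu' (μ a5)
  have r1 := hu' (τ a1)
  have r5 := hu' (τ a5)
  have fix : ∀ ω, ω ≠ a1 → ω ≠ a3 → ω ≠ a5 → ω ≠ τ a1 → ω ≠ τ a3 → ω ≠ τ a5 →
      (c3 a1 a3 a5 * c3 (τ a1) (τ a3) (τ a5)) ω = ω := fun ω e1 e2 e3 e4 e5 e6 => by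
    rw [Perm.mul_apply, c3_apply_of_ne e4 e5 e6, c3_apply_of_ne e1 e2 e3]
  have s1 : (c3 a1 a3 a5 * c3 (τ a1) (τ a3) (τ a5)) a1 = a3 := by
    rw [Perm.mul_apply, c3_apply_of_ne (x := a1) (by grind) (by grind) (by grind),
      c3_apply_fst (by grind) (by grind)]
  have s5 : (c3 a1 a3 a5 * c3 (τ a1) (τ a3) (τ a5)) a5 = a1 := by
    rw [Perm.mul_apply, c3_apply_of_ne (x := a5) (by grind) (by grind) (by grind), c3_apply_thd]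
  have f1 := fix (μ a1) (by grind) (by grind) (by grind) (by grind) (by grind) (by grind)
  have f5 := fix (μ a5) (by grind) (by grind) (by grind) (by grind) (by grind) (by grind)
  generalize c3 a1 a3 a5 * c3 (τ a1) (τ a3) (τ a5) = γ at *
  have ν : ∀ ω, (γ * μ * γ⁻¹) (γ ω) = γ (μ ω) := fun ω => by simp
  have cγ : ∀ ω, γ (τ ω) = τ (γ ω) := fun ω => by rw [← Perm.mul_apply, ← hc.eq, Perm.mul_apply]
  have n1 := ν a5
  have n2 := ν (μ a1)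
  have n4 := cγ a1
  have n7 := ν (τ (μ a1))
  have n8 := cγ (μ a1)
  have n9 := cγ a3
  have n10 := cu (μ a1)
  generalize γ * μ * γ⁻¹ = ν' at *
  grind

end Perm

variable {G : Type*} [Group G] [Finite G] {B Ω : Type*} [Group B] [Fintype Ω] [DecidableEq Ω]
  {z : B} {L : Subgroup B} {ρ : B →* Perm Ω} {t x : G} {K K' : Subgroup G} {F F' : G → B}

theorem Bar.movN (h : Bar z L ρ t K F) {g k : G} (hg : Commute g t) (hn : g ∉ 𝐍[K]) (hk : k ∈ K) :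
    ⁅g, k⁆ ∈ NN t K ∧ ρ (F ⁅g, k⁆) = (ρ (F k))⁻¹ := by
  have q := h.mov hg hn hk
  refine ⟨mul_mem (h.QN q) (inv_mem (h.KN hk)), ?_⟩
  rw [commutatorElement_def, h.mul (h.QN q) (inv_mem (h.KN hk)), map_mul, h.Qp q, h.Finv (h.KN hk),
    map_inv, one_mul]

/-- two commuting involutions with intrinsic components -/
structure Pr (z : B) (L : Subgroup B) (ρ : B →* Perm Ω) (t : G) (K : Subgroup G) (F : G → B)
    (x : G) (K' : Subgroup G) (F' : G → B) : Prop where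
  h : Bar z L ρ t K F
  h' : Bar z L ρ x K' F'
  c : Commute x t
  h8 : 8 ≤ Fintype.card Ω

namespace Pr
variable (P : Pr z L ρ t K F x K' F')
include P

theorem symm : Pr z L ρ x K' F' t K F := ⟨P.h', P.h, P.c.symm, P.h8⟩

theorem ON (ht : t ∈ NN x K') {o : G} (ho : o ∈ Oc t) (c : Commute o x) : o ∈ NN x K' := by
  refine ⟨mC.2 c, by_contra fun hn => ?_⟩
  obtain ⟨w, hw, cw, e⟩ := P.h'.root P.h8 P.h.inv.2 ht
  obtain ⟨h1, h2⟩ := P.h'.movN c hn hw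
  have := P.h'.eq_one_of_odd h1 (odd_O (comm_symm (comm_O (mC.2 cw.symm) ho))) (by
    rw [h2, ← mul_inv_rev, ← map_mul, ← P.h'.mul (P.h'.KN hw) (P.h'.KN hw), e, P.h'.pt, inv_one])
  exact P.h'.p_ne_of_sq hw e (by rwa [h2, inv_eq_one] at this)

theorem oddfix (ht : t ∈ NN x K') {o : G} (ho : o ∈ Oc t) (c : Commute o x) {p : Ω}
    (hp : ρ (F' t) p ≠ p) : ρ (F' o) p = p := by
  have oN := P.ON ht ho c
  refine LyMc.oddfix (P.h'.psq ht P.h.inv.2) (P.h'.pc ht oN (mC.1 (ppcOf_le 2 _ ho)).symm) (odd_O ho)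
    (P.h'.ppow oN) (fun a b c B3 => ?_) hp
  obtain ⟨-, -, w, hw, -, -, ew, -, cw, -⟩ := P.h'.key P.h.two_t ht B3
  refine ⟨_, odd_O (comm_symm (comm_O (mC.2 cw.symm) ho)), ?_⟩
  have := P.h'.ppow (P.h'.cmN oN (P.h'.KN hw))
  rwa [P.h'.Fcm oN (P.h'.KN hw), map_commutatorElement, ew] at this

theorem cntJ {J : Subgroup G} (hJ : PC J (C t ⊓ C x)) (h1 : ∀ j ∈ J, j ∈ NN t K ∧ ∃ k ∈ K,
    ρ (F j) = ρ (F k)) (h2 : ∀ k ∈ K, ∃ j ∈ J, ρ (F j) = ρ (F k)) (ht : t ∈ NN x K')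
    (hτ : ρ (F' t) ≠ 1) {k : G} (hk : k ∈ K) :
    ∃ j ∈ J, j ∈ QQ x K' ∧ ρ (F j) = ρ (F k) := by
  have hN : ∀ j ∈ J, j ∈ NN x K' := fun j hj =>
    P.h'.LN (PC.bal (inf_comm (C t) (C x) ▸ hJ) P.h.inv ht.1 hj)
  obtain ⟨j, hj, e1, e2⟩ := cnt (J := J) (π := fun g => ρ (F g)) (π' := fun g => ρ (F' g))
    (by have := P.h8; omega) (fun a ha b hb => by rw [P.h.mul (h1 a ha).1 (h1 b hb).1, map_mul])
    (fun a ha b hb => by rw [P.h'.mul (hN a ha) (hN b hb), map_mul])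
    (fun a ha => by
      obtain ⟨-, k, hk, e⟩ := h1 a ha
      rw [e]; exact P.h.cov.even (P.h.memL hk))
    (fun σ hσ => by
      obtain ⟨b, hb, rfl⟩ := P.h.cov.surj hσ
      obtain ⟨k, hk, rfl⟩ := P.h.surj hb
      exact h2 k hk) hτ (fun a ha => P.h'.pc (hN a ha) ht (mC.1 (hJ.1 ha).1))
    (P.h.cov.even (P.h.memL hk))
  exact ⟨j, hj, P.h'.Q_of (hN j hj) e2, e1⟩

theorem triv (hx : x ∈ QQ t K) : t ∈ QQ x K' := by
  obtain ⟨h1, h2, h3⟩ := P.h.layer P.h'.two_t.pg (zpowers_le.2 hx)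
  rw [Amb.centralizer_zpowers] at h1 h2 h3
  have hK : Lx (K ⊓ C x) ≤ K := (pLayerOf_le _).trans inf_le_left
  have tJ := h3 t ⟨P.h.tK, mC.2 P.c.symm⟩ P.h.two_t
  have ht := P.h'.LN (PC.bal (inf_comm (C t) (C x) ▸ h1) P.h.inv (mC.2 P.c.symm) tJ)
  refine P.h'.Q_of ht (by_contra fun hτ => hτ ?_)
  obtain ⟨w, hw, -, e⟩ := P.h.root P.h8 (one_mul 1) (one_mem _)
  obtain ⟨j, hj, q, e1⟩ := P.cntJ h1 (fun j hj => ⟨P.h.KN (hK hj), j, hK hj, rfl⟩) (fun k hk => by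
    obtain ⟨j, hj, e⟩ := P.h.surjJ hK h2 (P.h.memL hk)
    exact ⟨j, hj, by rw [e]⟩) ht hτ hw
  have jN := P.h.KN (hK hj)
  have h4 := P.h.eqF (mul_mem jN jN) P.h.tN (by
    rw [P.h.mul jN jN, P.h.cov.sq_eq (P.h.memL (hK hj)) (P.h.memL hw) e1,
      ← P.h.mul (P.h.KN hw) (P.h.KN hw), e])
  have q2 := inv_mem (mul_mem q q)
  have h5 : ρ (F' ((j * j)⁻¹ * t)) = ρ (F' t) := by
    rw [P.h'.mul (P.h'.QN q2) ht, map_mul, P.h'.Qp q2, one_mul]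
  rw [← h5]
  exact P.h'.eq_one_of_odd (mul_mem (P.h'.QN q2) ht) (odd_O h4) (h5 ▸ P.h'.psq ht P.h.inv.2)

theorem mov (hx : x ∉ 𝐍[K]) (ht : t ∈ NN x K') : ρ (F' t) = 1 := by
  by_contra hτ
  obtain ⟨J, hJ, h1, h2⟩ := exists_diag P.h.comp P.h'.inv (mC.2 P.c) hx
  have key : ∀ {j k}, k ∈ K → (k * (x * k * x⁻¹))⁻¹ * j ∈ Oc t → j ∈ NN t K ∧ ρ (F j) = ρ (F k) :=
    fun hk e => by
      have q := P.h.mov P.c hx hk
      have := mul_mem (P.h.KN hk) (P.h.QN q)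
      exact ⟨P.h.Nof this e, by
        rw [P.h.Feq this e, P.h.mul (P.h.KN hk) (P.h.QN q), map_mul, P.h.Qp q, mul_one]⟩
  obtain ⟨u, hu, -, eu⟩ := P.h.root P.h8 (one_mul 1) (one_mem _)
  obtain ⟨w, hw, cw, ew⟩ := P.h'.root P.h8 P.h.inv.2 ht
  obtain ⟨j, hj, q, e1⟩ := P.cntJ hJ (fun j hj => by
    obtain ⟨k, hk, e⟩ := h1 j hj
    exact ⟨(key hk e).1, k, hk, (key hk e).2⟩) (fun k hk => by
    obtain ⟨j, hj, e⟩ := h2 k hk
    exact ⟨j, hj, (key hk e).2⟩) ht hτ hu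
  obtain ⟨k, hk, e⟩ := h1 j hj
  have jN := (key hk e).1
  have n1 : w ∉ 𝐍[K] := fun h => hx (ew ▸ mul_mem h h)
  have n2 : w * x ∉ 𝐍[K] := fun h => hx (by
    have := mul_mem h h
    rwa [← pow_two, (P.h'.Kc hw).mul_pow, pow_two, pow_two, ew, P.h'.inv.2, mul_one] at this)
  have q1 : w * j * w⁻¹ ∈ QQ t K := by
    rw [show w * j * w⁻¹ = w * k * w⁻¹ * (w * x * k * (w * x)⁻¹) *
      (w * ((k * (x * k * x⁻¹))⁻¹ * j) * w⁻¹) by group]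
    exact mul_mem (mul_mem (P.h.mov cw.symm n1 hk) (P.h.mov (cw.symm.mul_left P.c) n2 hk))
      (P.h.OQ (conj_O (mC.2 cw.symm) e))
  have h5 : ρ (F ⁅w, j⁆) = (ρ (F u))⁻¹ := by
    rw [commutatorElement_def, P.h.mul (P.h.QN q1) (inv_mem jN), map_mul, P.h.Qp q1, P.h.Finv jN,
      map_inv, one_mul, e1]
  have := P.h.eq_one_of_odd (mul_mem (P.h.QN q1) (inv_mem jN))
    (odd_O (comm_symm ((P.h'.mem_Q.1 q).2 w hw))) (by
      show ρ (F ⁅w, j⁆) * ρ (F ⁅w, j⁆) = 1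
      rw [h5, ← mul_inv_rev, ← map_mul, ← P.h.mul (P.h.KN hu) (P.h.KN hu), eu, P.h.pt, inv_one])
  exact P.h.p_ne_of_sq hu eu (inv_eq_one.1 (h5.symm.trans this))

/-- the elements fixing all points moved by `x` -/
def Ψ : Subgroup G where
  carrier := {g | g ∈ NN t K ∧ Commute g x ∧ ∀ p, ρ (F x) p ≠ p → ρ (F g) p = p}
  mul_mem' := fun ha hb => ⟨mul_mem ha.1 hb.1, ha.2.1.mul_left hb.2.1, fun p hp => by
    rw [P.h.mul ha.1 hb.1, map_mul, Perm.mul_apply, hb.2.2 p hp, ha.2.2 p hp]⟩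
  one_mem' := ⟨one_mem _, Commute.one_left x, fun p _ => by rw [P.h.F1, map_one, Perm.one_apply]⟩
  inv_mem' := fun ha => ⟨inv_mem ha.1, ha.2.1.inv_left, fun p hp => by
    rw [P.h.Finv ha.1, map_inv, Perm.inv_eq_iff_eq, ha.2.2 p hp]⟩

theorem ΨO (hx : x ∈ NN t K) {o : G} (ho : o ∈ Oc x) (c : Commute o t) : o ∈ P.Ψ :=
  ⟨P.symm.ON hx ho c, mC.1 (ppcOf_le 2 _ ho), fun _ hp => P.symm.oddfix hx ho c hp⟩

theorem ΨQ {q : G} (hq : q ∈ QQ t K) (c : Commute q x) : q ∈ P.Ψ :=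
  ⟨P.h.QN hq, c, fun p _ => by rw [P.h.Qp hq, Perm.one_apply]⟩

theorem ΨN (hx : x ∈ NN t K) {g y : G} (hg : g ∈ NN t K) (c : Commute g x) (hy : y ∈ P.Ψ) :
    g * y * g⁻¹ ∈ P.Ψ := ⟨P.h.cjN hg hy.1, conj_comm_left hy.2.1 c, fun p hp => by
  rw [P.h.Fconj hg hy.1, map_mul, map_mul, map_inv, Perm.mul_apply, Perm.mul_apply,
    hy.2.2 _ (moved_of_comm (P.h.pc hx hg c.symm).inv_right hp)]
  simp⟩

theorem ΨK (hx : x ∈ NN t K) {g y : G} (hg : Commute g t) (c : Commute g x) (yK : y ∈ K)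
    (hy : y ∈ P.Ψ) : g * y * g⁻¹ ∈ P.Ψ := by
  by_cases hn : g ∈ 𝐍[K]
  exacts [P.ΨN hx ⟨mC.2 hg, hn⟩ c hy, P.ΨQ (P.h.mov hg hn yK) (conj_comm_left hy.2.1 c)]

end Pr

/-- each involution acts non-trivially on the component of the other -/
structure AA (z : B) (L : Subgroup B) (ρ : B →* Perm Ω) (t : G) (K : Subgroup G) (F : G → B)
    (x : G) (K' : Subgroup G) (F' : G → B) : Prop extends Pr z L ρ t K F x K' F' where
  tN : t ∈ NN x K'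
  hτ : ρ (F' t) ≠ 1

namespace AA
variable (P : AA z L ρ t K F x K' F')
include P

theorem xN : x ∈ NN t K := ⟨mC.2 P.c, by_contra fun hn => P.hτ (P.toPr.mov hn P.tN)⟩

theorem hξ : ρ (F x) ≠ 1 := fun e => P.hτ (P.h'.Qp (P.toPr.triv (P.h.Q_of P.xN e)))

theorem symm : AA z L ρ x K' F' t K F := ⟨P.toPr.symm, P.xN, P.hξ⟩

theorem sq : ρ (F x) * ρ (F x) = 1 := P.h.psq P.xN P.h'.inv.2

theorem notΨ {k : G} (hk : k ∈ P.toPr.Ψ) (kN : k ∈ NN x K') (kt : Commute k t)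
    (e : F' k * F' k = z) : False := by
  have h1 := P.h'.eqF (mul_mem kN kN) P.h'.tN (by rw [P.h'.mul kN kN, e, P.h'.Ft])
  have h2 := mul_mem (mul_mem hk hk) (P.toPr.ΨO P.xN h1 ((kt.mul_left kt).inv_left.mul_left P.c))
  rw [mul_inv_cancel_left] at h2
  obtain ⟨p, hp⟩ := exists_moved P.hξ
  exact hp (h2.2.2 p hp)

theorem cmΨ {y a : G} (yK : y ∈ K) (hy : y ∈ P.toPr.Ψ) (ha : a ∈ K') (c : Commute t a) :
    ⁅y, a⁆ ∈ P.toPr.Ψ := by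
  rw [show ⁅y, a⁆ = y * (a * y⁻¹ * a⁻¹) by group]
  exact mul_mem hy (P.toPr.ΨK P.xN c.symm (P.h'.Kc ha) (inv_mem yK) (inv_mem hy))

theorem blk {y : G} (yN : y ∈ NN x K') (yt : Commute y t) (ho : Odd (orderOf y)) {p : Ω}
    (hp : ρ (F' t) p ≠ p) (hη : ρ (F' y) p ≠ p) :
    ∃ w ∈ K', Commute t w ∧ F' ⁅y, w⁆ * F' ⁅y, w⁆ = z := by
  have cτ := P.h'.pc P.tN yN yt.symm
  have B3 := blk3_of_odd P.symm.sq cτ ho (P.h'.ppow yN) hp hη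
  obtain ⟨-, -, w, hw, -, -, e, -, cw, -⟩ := P.h'.key P.h.two_t P.tN B3
  refine ⟨w, hw, cw, P.h'.cov.sq_tt (P.h'.memL (P.h'.cmK yN hw)) B3.swap ?_⟩
  rw [P.h'.Fcm yN (P.h'.KN hw), map_commutatorElement, commutatorElement_def, e, conj_tt cτ.symm,
    B3.tt_mul]

theorem aux {y : G} (yK : y ∈ K) (hy : y ∈ P.toPr.Ψ) (ho : Odd (orderOf y)) :
    y ∈ P.toPr.symm.Ψ := by
  have yt := P.h.Kc yK
  have yN : y ∈ NN x K' := ⟨mC.2 hy.2.1, by_contra fun hn => by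
    obtain ⟨a, ha, b, hb, ca, cb, e⟩ := P.h'.sl P.h8 P.h.inv.2 P.tN
    have q := inv_mem (P.h'.mov hy.2.1 hn ha)
    have qN := P.h'.QN q
    have aN := P.h'.KN ha
    have bN := P.h'.KN hb
    have h1 : b * ⁅y, a⁆ * b⁻¹ ∈ P.toPr.Ψ := by
      rw [show b * ⁅y, a⁆ * b⁻¹ = b * y * b⁻¹ * (b * a * y⁻¹ * (b * a)⁻¹) by group]
      exact mul_mem (P.toPr.ΨK P.xN cb.symm (P.h'.Kc hb) yK hy) (P.toPr.ΨK P.xN
        (cb.symm.mul_left ca.symm) (P.h'.Kc (mul_mem hb ha)) (inv_mem yK) (inv_mem hy))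
    have h2 := mul_mem (inv_mem (P.cmΨ yK hy ha ca)) h1
    rw [show ⁅y, a⁆⁻¹ * (b * ⁅y, a⁆ * b⁻¹) = a * ((y * a * y⁻¹)⁻¹ * b * (y * a * y⁻¹)⁻¹⁻¹) * a⁻¹ * b⁻¹ by
      group] at h2
    refine P.notΨ h2 (mul_mem (P.h'.cjN aN (P.h'.cjN qN bN)) (inv_mem bN)) (mC.1 h2.1.1) ?_
    rw [P.h'.mul (P.h'.cjN aN (P.h'.cjN qN bN)) (inv_mem bN), P.h'.Fconj aN (P.h'.cjN qN bN),
      P.h'.Fconj qN bN, (P.h'.QF q (P.h'.memL hb)).eq, mul_inv_cancel_right, P.h'.Finv bN, ← e,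
      P.h'.Fcm aN bN, commutatorElement_def]⟩
  refine ⟨yN, yt, fun p hp => by_contra fun hη => ?_⟩
  obtain ⟨w, hw, cw, e⟩ := P.blk yN yt ho hp hη
  exact P.notΨ (P.cmΨ yK hy hw cw) (P.h'.cmN yN (P.h'.KN hw)) (comm_comm cw.symm yt) e

theorem few_fixed : Fintype.card Ω ≤ (ρ (F x)).support.card + 3 := by
  by_contra hc
  obtain ⟨a, b, c, d, fa, fb, fc, fd, h1, h2, h3, h4, h5, h6⟩ := exists_four_fixed (not_le.1 hc)
  have key : ∀ {a b c : Ω}, ρ (F x) a = a → ρ (F x) b = b → ρ (F x) c = c → a ≠ b → a ≠ c → b ≠ c →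
      ∃ y ∈ K, ρ (F y) = c3 a b c ∧ y ∈ P.toPr.symm.Ψ := fun fa fb fc h1 h2 h4 => by
    obtain ⟨y', y1, y2, y3⟩ := P.h.cov.exists_c3 h1 h2 h4
    obtain ⟨y, hy, rfl, cy⟩ := P.h.lift1 P.h'.two_t P.xN y1 (P.h.cov.comm_of_odd (P.h.cen _) y1 (by
      rw [y2]; exact mul_inv_eq_iff_eq_mul.1 (by rw [conj_c3, fa, fb, fc])) (by decide) y3)
    exact ⟨y, hy, y2, P.aux hy ⟨P.h.KN hy, cy.symm, fun u hu => by
      rw [y2]; exact c3_apply_of_ne (by grind) (by grind) (by grind)⟩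
      (P.h.odd (P.h.KN hy) (by decide) y3)⟩
  obtain ⟨y, hy, ey, y1⟩ := key fa fb fc h1 h2 h4
  obtain ⟨w, hw, ew, w1⟩ := key fb fc fd h4 h5 h6
  have := mul_mem y1 w1
  exact P.symm.notΨ this (P.h.KN (mul_mem hy hw)) (mC.1 this.1.1) (P.h.cov.dbl
    (P.h.memL (mul_mem hy hw)) h1 h6 h2 h3 h4 h5 (by
      rw [P.h.mul (P.h.KN hy) (P.h.KN hw), map_mul, ey, ew, c3, c3, mul_assoc, swap_mul_self_mul]))

theorem five : 4 < (ρ (F x)).support.card := by have := P.few_fixed; have := P.h8; omega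

theorem stepB {w : G} (hw : w ∈ K) (cw : Commute x w) {a b : Ω} (e : ρ (F w) = tt (ρ (F x)) a b)
    (w2 : w * w = t) : w ∈ NN x K' := by
  refine ⟨mC.2 cw.symm, by_contra fun hn => ?_⟩
  obtain ⟨a', b', c', B3⟩ := exists_blk3'' P.symm.sq P.symm.five
  obtain ⟨y, hy, -, -, -, ey, -, cy, -⟩ := P.h'.key P.h.two_t P.tN B3
  obtain ⟨h1, h2⟩ := P.h'.movN cw.symm hn hy
  have wN := P.h.KN hw
  have h3 : ⁅w, y⁆ ∈ NN t K ∧ F ⁅w, y⁆ ^ 4 = 1 := by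
    by_cases hn' : y ∈ 𝐍[K]
    · have yN : y ∈ NN t K := ⟨mC.2 cy.symm, hn'⟩
      have hk := P.h.cmK' hw yN
      refine ⟨P.h.KN hk, P.h.four (P.h.cov.ker (L.mul_mem (P.h.memL hk) (P.h.memL hk)) ?_)⟩
      rw [map_mul, P.h.Fcm wN yN, map_commutatorElement, e,
        show ⁅tt (ρ (F x)) a b, ρ (F y)⁆ = tt (ρ (F x)) a b *
          (ρ (F y) * tt (ρ (F x)) a b * (ρ (F y))⁻¹)⁻¹ by group,
        conj_tt (P.h.pc yN P.xN (P.h'.Kc hy)), tt_inv P.sq, ← pow_two,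
        (tt_comm_tt P.sq _ _ _ _).mul_pow, pow_two, pow_two, tt_sq' P.sq, tt_sq' P.sq, one_mul]
    · have q := P.h.mov cy.symm hn' (inv_mem hw)
      have qN := P.h.QN q
      rw [show ⁅w, y⁆ = w * (y * w⁻¹ * y⁻¹) by group]
      refine ⟨mul_mem wN qN, P.h.four (Or.inl ?_)⟩
      rw [P.h.mul wN qN, ← pow_two, (P.h.QF q (P.h.memL hw)).symm.mul_pow, pow_two, pow_two,
        ← P.h.mul wN wN, ← P.h.mul qN qN, ← P.h.mul (mul_mem wN wN) (mul_mem qN qN),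
        show y * w⁻¹ * y⁻¹ * (y * w⁻¹ * y⁻¹) = y * (w * w)⁻¹ * y⁻¹ by group, w2,
        ← cy.inv_left.eq, mul_inv_cancel_right, mul_inv_cancel, P.h.F1]
  have h4 := P.toPr.oddfix P.tN ((P.h.ker (pow_mem h3.1 4)).1 (by rw [P.h.Fpow h3.1, h3.2]))
    ((mC.1 h1.1).pow_left 4) B3.ha
  rw [P.h'.Fpow h1, map_pow, h2, ey, inv_pow, pow_succ, B3.rot_cube, one_mul, Perm.inv_eq_iff_eq,
    B3.rot_apply.1] at h4
  exact B3.ab h4

theorem exists_u : ∃ u ∈ K, Commute x u ∧ u * u = t ∧ u ∈ NN x K' ∧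
    ∃ a b, ρ (F u) = tt (ρ (F x)) a b := by
  obtain ⟨a, b, c, B3⟩ := exists_blk3'' P.sq P.five
  obtain ⟨-, -, u, hu, -, -, e, -, cu, u2⟩ := P.h.key P.h'.two_t P.xN B3
  exact ⟨u, hu, cu, u2, P.stepB hu cu e u2, a, b, e⟩

theorem le_eight : (ρ (F' t)).support.card ≤ 8 := by
  by_contra h9
  obtain ⟨u, hu, cu, u2, uN, a, b, e⟩ := P.exists_u
  obtain ⟨γ, p, h3, hc, hp, n1, n2⟩ := nine (μ := ρ (F' u)) P.symm.sq
    (by rw [← map_mul, ← P.h'.mul uN uN, u2]) (not_le.1 h9)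
  obtain ⟨c', c1, rfl, c3⟩ := P.h'.cov.exists_lift_odd (by decide) h3
  obtain ⟨c, hc', rfl, ct⟩ := P.h'.lift1 P.h.two_t P.tN c1
    (P.h'.cov.comm_of_odd (P.h'.cen _) c1 hc (by decide) c3)
  have cN := P.h'.KN hc'
  have uK := P.h.KN hu
  have vN := P.h'.cjN cN uN
  have h1 : c * u * c⁻¹ ∈ NN t K ∧ (F (u * (c * u * c⁻¹) * u⁻¹) = F (c * u * c⁻¹) ∨
      F (u * (c * u * c⁻¹) * u⁻¹) = F (c * u * c⁻¹ * t)) := by
    by_cases hn : c ∈ 𝐍[K]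
    · have cN' : c ∈ NN t K := ⟨mC.2 ct.symm, hn⟩
      have vK := P.h.cjK cN' hu
      refine ⟨P.h.KN vK, ?_⟩
      rw [P.h.Fconj uK (P.h.KN vK), P.h.mul (P.h.KN vK) P.h.tN, P.h.Ft]
      refine P.h.cov.conj_or (P.h.cen _) (P.h.memL vK) ?_
      rw [P.h.Fconj cN' uK, map_mul, map_mul, map_inv, e, conj_tt (P.h.pc cN' P.xN (P.h'.Kc hc'))]
      exact tt_comm_tt P.sq _ _ _ _
    · have q := P.h.mov ct.symm hn hu
      refine ⟨P.h.QN q, Or.inl ?_⟩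
      rw [P.h.Fconj uK (P.h.QN q), ← (P.h.QF q (P.h.memL hu)).eq, mul_inv_cancel_right]
  have ev : ρ (F' (c * u * c⁻¹)) = ρ (F' c) * ρ (F' u) * (ρ (F' c))⁻¹ := by
    rw [P.h'.Fconj cN uN, map_mul, map_mul, map_inv]
  rw [← ev] at n1 n2
  have h2 : ∀ {g}, g ∈ NN t K → g ∈ NN x K' → F (u * (c * u * c⁻¹) * u⁻¹) = F g →
      ρ (F' u) (ρ (F' (c * u * c⁻¹)) p) = ρ (F' g) (ρ (F' u) p) := fun {g} g1 g2 e => by
    have o := P.h.eqF g1 (P.h.cjN uK h1.1) e.symm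
    have oN := mul_mem (inv_mem g2) (P.h'.cjN uN vN)
    have := P.toPr.oddfix P.tN o (mC.1 oN.1) hp
    rw [P.h'.mul (inv_mem g2) (P.h'.cjN uN vN), P.h'.Finv g2, P.h'.Fconj uN vN] at this
    simpa [Equiv.symm_apply_eq] using this
  rcases h1.2 with e | e
  · exact n1 (h2 h1.1 vN e)
  · exact n2 (by rw [h2 (mul_mem h1.1 P.h.tN) (mul_mem vN P.tN) e, P.h'.mul vN P.tN, map_mul,
      Perm.mul_apply])

theorem h11 : Fintype.card Ω ≤ 11 := by have := P.symm.few_fixed; have := P.le_eight; omega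

theorem keyΨ {y w : G} {a b c : Ω} (B3 : Blk3 (ρ (F x)) a b c) (hy : y ∈ K) (hw : w ∈ K)
    (ey : ρ (F y) = rot (ρ (F x)) a b c) (ew : ρ (F w) = tt (ρ (F x)) a b) (cw : Commute x w)
    (w2 : w * w = t) : y ∉ P.toPr.symm.Ψ := fun h => by
  have h1 : ⁅y, w⁆ ∈ P.toPr.symm.Ψ := by
    rw [show ⁅y, w⁆ = y * (w * y⁻¹ * w⁻¹) by group]
    exact mul_mem h (P.toPr.symm.ΨN P.tN (P.stepB hw cw ew w2) (P.h.Kc hw) (inv_mem h))
  refine P.symm.notΨ h1 (P.h.cmN (P.h.KN hy) (P.h.KN hw)) (mC.1 h1.1.1)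
    (P.h.cov.sq_tt (P.h.memL (P.h.cmK (P.h.KN hy) hw)) B3.swap ?_)
  rw [P.h.Fcm (P.h.KN hy) (P.h.KN hw), map_commutatorElement, commutatorElement_def, ey, ew,
    conj_tt B3.rot_comm.symm, B3.rot_apply.1, B3.rot_apply.2.1, B3.tt_mul]

theorem uniq {K₁ : Subgroup G} {F₁ : G → B} (h₁ : Bar z L ρ t K₁ F₁) : K = K₁ := by
  by_contra hne
  have P₁ : AA z L ρ t K₁ F₁ x K' F' := ⟨⟨h₁, P.h', P.c, P.h8⟩, P.tN, P.hτ⟩
  obtain ⟨u, hu, cu, u2, uN, -⟩ := P.exists_u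
  have uQ := h₁.other P.h.comp hne hu
  have eμ : ρ (F' u) * ρ (F' u) = ρ (F' t) := by rw [← map_mul, ← P.h'.mul uN uN, u2]
  obtain ⟨a, b, c, B3⟩ := exists_blk3'' P₁.sq P₁.five
  obtain ⟨y₀, hy₀, w, hw, y3, ey, ew, cy, cw, w2⟩ := h₁.key P.h'.two_t P₁.xN B3
  obtain ⟨y, hy, e, cy⟩ := h₁.lift (pg_two P.h'.two_t (Two.of_sq (u2 ▸ P.h.two_t)) cu)
    (zle P₁.xN (h₁.QN uQ)) (h₁.memL hy₀) (h₁.c2 (zpowers_le.2 P₁.xN) (h₁.QN uQ)
      (h₁.c1 P₁.xN (h₁.Fc' P₁.xN (h₁.KN hy₀) cy)) (h₁.QF uQ (h₁.memL hy₀)))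
  rw [← e] at y3 ey
  have yx := (cy x zl).symm
  by_cases hn : y ∈ 𝐍[K']
  · have yN : y ∈ NN x K' := ⟨mC.2 yx, hn⟩
    refine P₁.keyΨ B3 hy hw ey ew cw w2 ⟨yN, h₁.Kc hy, fun p hp => fix_of_comm_four' P.h11
      (ρ := ρ (F' u)) (by rw [eμ, P.symm.sq]) (P.h'.pc uN yN (cy u zr)) ?_ (by rwa [eμ])⟩
    rw [← map_pow, ← P.h'.Fpow yN]
    exact P.toPr.oddfix P.tN ((h₁.ker (pow_mem (h₁.KN hy) 3)).1 (by rw [h₁.Fpow (h₁.KN hy), y3]))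
      (yx.pow_left 3) hp
  · obtain ⟨p, hp⟩ := exists_moved P.hτ
    obtain ⟨q, hq, nq⟩ := exists_supp_notMem (σ := ρ (F' t))
      {p, ρ (F' t) p, ρ (F' u) p, ρ (F' t) (ρ (F' u) p)} (Finset.card_le_four.trans_lt P.symm.five)
    simp only [Finset.mem_insert, Finset.mem_singleton, not_or] at nq
    obtain ⟨r, B'⟩ := exists_blk3 P.symm.sq P.symm.five hp hq (Ne.symm nq.1) (Ne.symm nq.2.1)
    obtain ⟨-, -, v, hv, -, -, ev, -, cv, v2⟩ := P.h'.key P.h.two_t P.tN B'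
    obtain ⟨g1, g2⟩ := P.h'.movN yx hn hv
    have := P.toPr.oddfix P.tN ((h₁.mem_Q.1 uQ).2 _ (h₁.cmK' hy (P₁.symm.stepB hv cv ev v2)))
      (mC.1 (P.h'.cmN uN g1).1) (moved_of_comm (P.h'.pc P.tN uN (P.h.Kc hu).symm) hp)
    rw [P.h'.Fcm uN g1, map_commutatorElement, g2, ev, tt_inv P.symm.sq, commutatorElement_def,
      tt_inv P.symm.sq] at this
    have i1 := sq_apply P.symm.sq p
    have i2 := sq_apply P.symm.sq q
    have i3 : ρ (F' u) (ρ (F' u) p) = ρ (F' t) p := by rw [← Perm.mul_apply, eμ]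
    have i4 : ρ (F' u) (ρ (F' t) p) = ρ (F' t) (ρ (F' u) p) := by
      rw [← eμ]; rfl
    have i5 : tt (ρ (F' t)) p q (ρ (F' u) p) = ρ (F' u) p := by
      rw [tt, Perm.mul_apply, swap_apply_of_ne_of_ne (by grind) (by grind),
        swap_apply_of_ne_of_ne (by grind) (by grind)]
    simp only [Perm.mul_apply, i5, Perm.coe_inv, Equiv.symm_apply_apply, B'.tt_fst] at this
    exact hp ((ρ (F' u)).injective this)

theorem norm {g : G} (hg : Commute g t) : g ∈ NN t K := by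
  have := P.h.conj g
  rw [hg.eq, mul_inv_cancel_right] at this
  exact ⟨mC.2 hg, cj_eq_iff.1 (P.uniq this).symm⟩

theorem exists_moving : ∃ y ∈ K, Commute y x ∧ Odd (orderOf y) ∧
    ∃ p, ρ (F' t) p ≠ p ∧ ρ (F' y) p ≠ p := by
  obtain ⟨a, b, c, B3⟩ := exists_blk3'' P.sq P.five
  obtain ⟨y, hy, w, hw, y3, ey, ew, cy, cw, w2⟩ := P.h.key P.h'.two_t P.xN B3
  refine ⟨y, hy, cy.symm, P.h.odd (P.h.KN hy) (by decide) y3, by_contra fun hc => ?_⟩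
  push Not at hc
  exact P.keyΨ B3 hy hw ey ew cw w2 ⟨P.symm.norm cy.symm, P.h.Kc hy, hc⟩

theorem mem : x ∈ K := by
  obtain ⟨y, hy, cy, ho, p, hp, hη⟩ := P.exists_moving
  have yN := P.symm.norm cy
  obtain ⟨w, hw, cw, e⟩ := P.blk yN (P.h.Kc hy) ho hp hη
  have k1 := P.h'.cmK yN hw
  have k2 := P.h.cmK' hy (P.norm cw.symm)
  have kN := P.h'.KN (mul_mem k1 k1)
  have o := odd_O (P.h'.eqF kN P.h'.tN (by rw [P.h'.mul (P.h'.KN k1) (P.h'.KN k1), e, P.h'.Ft]))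
  have := pow_orderOf_eq_one ((⁅y, w⁆ * ⁅y, w⁆)⁻¹ * x)
  rw [(mC.1 kN.1).inv_left.mul_pow, pow_odd_of_sq P.h'.inv.2 o, inv_pow, inv_mul_eq_one] at this
  exact this ▸ pow_mem (mul_mem k2 k2) _

end AA

end Cfsg.Agent.Sol
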